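import Cfsg.Prelude.Def_Local
import Cfsg.Agent.OddHalf.D4.Basic
import Cfsg.Agent.OddHalf.D4.CommConj
import Cfsg.Agent.OddHalf.D4.FullPair

/-!
# S3151: the configuration `C(e) ∩ C(K) = E × Z(K)`

`Cfg E K`: `E` elementary abelian, `K` quasisimple with odd centre, normal in `C(e)`, `C(e) ∩ C(K) = E Z(K)` and
`C(e) = C(f)` for all involutions `e`, `f` of `E`. Then `E` is a Sylow 2-subgroup of `C(K)`.
-/

set_option autoImplicit false

namespace Cfsg.Agent.H298.UThree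

open Subgroup Cfsg.Agent.OddHalf.D4.Basic
open Cfsg.Agent.OddHalf.D4.CommConj (cj mem_cj cj_mul card_cj cj_eq_of_mem_normalizer mem_normalizer_of_cj_eq
  mem_cj_mul)

variable {G : Type*} [Group G]

/-- 2-elements -/
def Two (x : G) : Prop := ∃ k : ℕ, x ^ 2 ^ k = 1

theorem Two.of_mem {P : Subgroup G} (hP : IsPGroup 2 ↥P) {x : G} (hx : x ∈ P) : Two x := by
  obtain ⟨k, hk⟩ := hP ⟨x, hx⟩
  exact ⟨k, congrArg Subtype.val hk⟩

theorem Two.of_sq {x : G} (h : x * x = 1) : Two x := ⟨1, by rw [pow_one, pow_two, h]⟩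

theorem Two.mul {x y : G} (hx : Two x) (hy : Two y) (h : x * y = y * x) : Two (x * y) := by
  obtain ⟨k, hk⟩ := hx
  obtain ⟨l, hl⟩ := hy
  have hc : Commute x y := h
  refine ⟨k + l, ?_⟩
  rw [hc.mul_pow, pow_add, pow_mul, hk, one_pow, one_mul, mul_comm, pow_mul, hl, one_pow]

theorem Two.inv {x : G} (hx : Two x) : Two x⁻¹ := by
  obtain ⟨k, hk⟩ := hx
  exact ⟨k, by rw [inv_pow, hk, inv_one]⟩

theorem Two.conj {x : G} (hx : Two x) (g : G) : Two (g * x * g⁻¹) := by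
  obtain ⟨k, hk⟩ := hx
  exact ⟨k, by rw [conj_pow, hk]; group⟩

theorem Two.eq_one_of_odd {x : G} (hx : Two x) {m : ℕ} (hm : Odd m) (h : x ^ m = 1) : x = 1 := by
  obtain ⟨k, hk⟩ := hx
  have h1 : orderOf x ∣ 2 ^ k := orderOf_dvd_of_pow_eq_one hk
  have h2 : orderOf x ∣ m := orderOf_dvd_of_pow_eq_one h
  have h3 : Nat.Coprime (2 ^ k) m := Nat.Coprime.pow_left k (Nat.coprime_two_left.mpr hm)
  have h4 := Nat.eq_one_of_dvd_coprimes h3 h1 h2
  exact orderOf_eq_one_iff.mp h4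

/-- the configuration -/
structure Cfg (E K : Subgroup G) : Prop where
  ne : ∃ e ∈ E, e ≠ 1
  sq : ∀ e ∈ E, e * e = 1
  cen : ∀ e ∈ E, e ≠ 1 → ∀ f ∈ E, ∀ x : G, x * e = e * x → x * f = f * x
  Kc : ∀ e ∈ E, ∀ k ∈ K, e * k = k * e
  nor : ∀ e ∈ E, e ≠ 1 → ∀ x : G, x * e = e * x → ∀ k ∈ K, x * k * x⁻¹ ∈ K
  cK : ∀ e ∈ E, e ≠ 1 → ∀ x : G, x * e = e * x → x ∈ centralizer (K : Set G) →
    ∃ f ∈ E, ∃ w ∈ K, w ∈ centralizer (K : Set G) ∧ x = f * w
  qs : Cfsg.IsQuasisimple ↥K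
  odd : Odd (Nat.card ↥(center ↥K))

namespace Cfg

variable {E K : Subgroup G}

theorem E_comm (c : Cfg E K) {e f : G} (he : e ∈ E) (hf : f ∈ E) : e * f = f * e := by
  have h1 := c.sq _ (mul_mem he hf)
  have h2 := c.sq e he
  have h3 := c.sq f hf
  have e1 : e⁻¹ = e := inv_eq_of_mul_eq_one_left h2
  have e2 : f⁻¹ = f := inv_eq_of_mul_eq_one_left h3
  have e3 : (e * f)⁻¹ = e * f := inv_eq_of_mul_eq_one_left h1
  rw [mul_inv_rev, e1, e2] at e3
  exact e3.symm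

theorem E_le (c : Cfg E K) : E ≤ centralizer (K : Set G) := by
  intro e he
  rw [mem_centralizer_iff]
  intro k hk
  exact (c.Kc e he k hk).symm

theorem E_two (c : Cfg E K) : IsPGroup 2 ↥E := by
  intro x
  exact ⟨1, Subtype.ext (by
    show (x : G) ^ 2 ^ 1 = 1
    rw [pow_one, pow_two]
    exact c.sq x x.2)⟩

theorem w_pow (_c : Cfg E K) {w : G} (hw : w ∈ K) (hwc : w ∈ centralizer (K : Set G)) :
    w ^ Nat.card ↥(center ↥K) = 1 := by
  have h1 : (⟨w, hw⟩ : ↥K) ∈ center ↥K := by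
    rw [Subgroup.mem_center_iff]
    intro y
    exact Subtype.ext (mem_centralizer_iff.mp hwc y y.2)
  have h2 : (⟨⟨w, hw⟩, h1⟩ : ↥(center ↥K)) ^ Nat.card ↥(center ↥K) = 1 := pow_card_eq_one'
  exact congrArg (fun z : ↥(center ↥K) => ((z : ↥K) : G)) h2

theorem w_eq_one (c : Cfg E K) {w : G} (hw : w ∈ K) (hwc : w ∈ centralizer (K : Set G)) (h2 : Two w) : w = 1 :=
  h2.eq_one_of_odd c.odd (c.w_pow hw hwc)

theorem inf_eq (c : Cfg E K) {x : G} (hx : x ∈ E) (hxK : x ∈ K) : x = 1 :=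
  c.w_eq_one hxK (c.E_le hx) (Two.of_mem c.E_two hx)

/-- 2-elements of `C(K) ∩ C(e)` -/
theorem mem_E (c : Cfg E K) {e x : G} (he : e ∈ E) (he1 : e ≠ 1) (hxe : x * e = e * x)
    (hx : x ∈ centralizer (K : Set G)) (h2 : Two x) : x ∈ E := by
  obtain ⟨f, hf, w, hw, hwc, rfl⟩ := c.cK e he he1 x hxe hx
  have h3 : f * w = w * f := c.Kc f hf w hw
  have h4 : w = f⁻¹ * (f * w) := by group
  have h5 : Two (f⁻¹ * (f * w)) := by
    refine (Two.of_mem c.E_two (inv_mem hf)).mul h2 ?_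
    rw [h3]
    have : f⁻¹ * (w * f) = w := by rw [← h3]; group
    rw [this]
    group
  have h6 : w = 1 := c.w_eq_one hw hwc (by rw [h4]; exact h5)
  rw [h6, mul_one]
  exact hf

/-- **`E` is a Sylow 2-subgroup of `C(K)`.** -/
theorem isSyl [Finite G] (c : Cfg E K) : IsSyl E (centralizer (K : Set G)) := by
  refine ⟨c.E_two, c.E_le, ?_⟩
  intro Q hQ hle hQK
  have hne : Q ≠ ⊥ := by
    rintro rfl
    obtain ⟨e, he, he1⟩ := c.ne
    exact he1 (mem_bot.mp (hle he))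
  obtain ⟨z, hz, hz2, hzc⟩ := exists_central_invol hQ le_rfl hne (fun t ht n hn =>
    mul_mem (mul_mem ht hn) (inv_mem ht))
  obtain ⟨e, he, he1⟩ := c.ne
  have hzE : z ∈ E := c.mem_E he he1 (hzc e (hle he)).symm (hQK hz) (Two.of_mem hQ hz)
  have hz1 : z ≠ 1 := by
    rintro rfl
    rw [orderOf_one] at hz2
    omega
  intro q hq
  exact c.mem_E hzE hz1 (hzc q hq) (hQK hq) (Two.of_mem hQ hq)

/-- every involution of `C(K)` is conjugate in `C(K)` to one of `E` -/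
theorem conj_into [Finite G] (c : Cfg E K) {x : G} (hx : x ∈ centralizer (K : Set G)) (h2 : orderOf x = 2) :
    ∃ m ∈ centralizer (K : Set G), m * x * m⁻¹ ∈ E := by
  have h3 : IsPGroup 2 ↥(zpowers x) := by
    apply IsPGroup.of_card (n := 1)
    rw [Nat.card_zpowers, h2, pow_one]
  obtain ⟨m, hm, h4⟩ := c.isSyl.conj_into h3 (by rwa [zpowers_le])
  exact ⟨m, hm, h4 x (mem_zpowers x)⟩

/-- `K` is normalised by the centralisers of the involutions of `C(K)`. -/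
theorem nor' [Finite G] (c : Cfg E K) {x : G} (hx : x ∈ centralizer (K : Set G)) (h2 : orderOf x = 2) {g : G}
    (hg : g * x = x * g) {k : G} (hk : k ∈ K) : g * k * g⁻¹ ∈ K := by
  obtain ⟨m, hm, hmE⟩ := c.conj_into hx h2
  have hne : m * x * m⁻¹ ≠ 1 := by
    intro h
    have h3 := orderOf_conj m x
    rw [h, h2, orderOf_one] at h3
    omega
  have hmk : ∀ k ∈ K, m * k * m⁻¹ = k := by
    intro k hk
    have := mem_centralizer_iff.mp hm k hk
    rw [← this]; group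
  have hmk' : ∀ k ∈ K, m⁻¹ * k * m = k := by
    intro k hk
    have := mem_centralizer_iff.mp hm k hk
    rw [mul_assoc, this]; group
  have h4 := c.nor _ hmE hne (m * g * m⁻¹) (by
    have e1 : m * g * m⁻¹ * (m * x * m⁻¹) = m * (g * x) * m⁻¹ := by group
    have e2 : m * x * m⁻¹ * (m * g * m⁻¹) = m * (x * g) * m⁻¹ := by group
    rw [e1, e2, hg]) k hk
  have e3 : g * k * g⁻¹ = m⁻¹ * (m * g * m⁻¹ * (m * k * m⁻¹) * (m * g * m⁻¹)⁻¹) * m := by group
  rw [e3, hmk k hk, hmk' _ h4]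
  exact h4

end Cfg

end Cfsg.Agent.H298.UThree
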