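import Cfsg.Agent.OddHalf.D4.U3.Torus
import Cfsg.Agent.H298.UThree.Setup

/-!
# S3151: automorphisms of `PSU₃(q)`, `q = 2 ^ n ≥ 4`

`A` a finite group, `I ⊴ A` with `C_A(I) = 1`, `p : Par I σ n`.

* `Amb.mem_Z_of_comm` : `C_A(S) = Z(S)`;
* `Amb.ti` : `S ∩ S^a ≠ 1` implies `S = S^a`;
* `Amb.card_le` : elementary abelian 2-subgroups have order at most `2 q`;
* `Amb.exists_inner` : an elementary abelian 2-subgroup of order at least 4 meets `I`;
* `Amb.le_S` : a 2-subgroup of `C_A(z)`, `1 ≠ z ∈ Z(S)`, normalised by `C_I(z)` is in `S`.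
-/

set_option autoImplicit false
set_option linter.unusedSectionVars false

namespace Cfsg.Agent.H298.UThree.Act

open Subgroup Cfsg.Agent.LieRecognition Cfsg.Agent.LieRecognition.HermHeis Cfsg.Agent.StdU3.URel
  Cfsg.Agent.StdU3.URelAut Cfsg.Agent.StdU3.FieldAut
  Cfsg.Agent.StdU3.Field Cfsg.Agent.StdU3.Semi Cfsg.Agent.OddHalf.D4.Basic
open Cfsg.Agent.OddHalf.D4.CommConj (cj mem_cj cj_mul card_cj cj_eq_of_mem_normalizer mem_normalizer_of_cj_eq
  mem_cj_mul)
open Cfsg.Agent.OddHalf.D4.U3.ParDefs Cfsg.Agent.OddHalf.D4.U3.Torus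
open Cfsg.Agent.H298.UThree

universe u v

variable {A : Type u} [Group A] [Finite A] {F : Type v} [Field F] [Fintype F] [CharP F 2] {σ : F →+* F}
  [hσ : Fact (∀ x, σ (σ x) = x)] {n : ℕ} {I : Subgroup A}

/-- `I` is normal and self-centralising with trivial centre -/
structure Amb (I : Subgroup A) : Prop where
  nor : ∀ a : A, ∀ i ∈ I, a * i * a⁻¹ ∈ I
  cent : ∀ x : A, (∀ i ∈ I, x * i = i * x) → x = 1

namespace Amb

variable (a : Amb I) (p : Par I σ n)

include a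

theorem mem_norm (x : A) : x ∈ normalizer (I : Set A) := by
  rw [mem_normalizer_iff]
  intro i
  constructor
  · exact a.nor x i
  · intro h
    have := a.nor x⁻¹ _ h
    have e : x⁻¹ * (x * i * x⁻¹) * x⁻¹⁻¹ = i := by group
    rwa [e] at this

/-- trivial semilinear action -/
theorem mem_of_sl {y : A} (h : SL p.u (⊥ : Subgroup A) y 1 1) : y ∈ p.S := by
  set φ : MulAut I := I.normalizerMonoidHom ⟨y, a.mem_norm y⟩ with hφ
  have hφa : ∀ k : I, ((φ k : I) : A) = y * k * y⁻¹ := fun k => rfl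
  have ht : Triv p.R φ := by
    intro x
    obtain ⟨x', h5, h6⟩ := sl_bot h x
    refine ⟨x', Subtype.ext ?_, ?_⟩
    · rw [hφa]; exact h5
    · rw [h6, one_mul]; rfl
  obtain ⟨x, hx⟩ := ht.inner (fieldOK p.hS)
  have hK : ∀ k ∈ I, y * k * y⁻¹ = p.u x * k * (p.u x)⁻¹ := by
    intro k hk
    have h7 := hφa ⟨k, hk⟩
    rw [hx] at h7
    exact h7.symm
  have h1 : (p.u x)⁻¹ * y = 1 := by
    apply a.cent
    intro k hk
    have h8 := hK k hk
    rw [mul_inv_eq_iff_eq_mul] at h8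
    calc (p.u x)⁻¹ * y * k = (p.u x)⁻¹ * (y * k) := by group
      _ = k * ((p.u x)⁻¹ * y) := by rw [h8]; group
  have h2 : y = p.u x := by
    rw [inv_mul_eq_one] at h1
    exact h1.symm
  rw [h2]
  exact p.u_mem x

/-- linear 2-elements -/
theorem mem_of_sl_two {y : A} {c : F} (h : SL p.u (⊥ : Subgroup A) y c 1) (h2 : Two y) : y ∈ p.S := by
  obtain ⟨m, hm⟩ := h2
  have h3 := sl_pow p h (2 ^ m)
  rw [hm] at h3
  have h4 := (h3.unique p.hS (pw_bot p) SL.one).1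
  have hc1 : c = 1 := eq_one_of_pow h4
  subst hc1
  exact a.mem_of_sl p h

/-- **`C_A(S) = Z(S)`** -/
theorem mem_Z_of_comm {y : A} (h : ∀ s ∈ p.S, y * s = s * y) : y ∈ p.Z := by
  have h1 : SL p.u (⊥ : Subgroup A) y 1 1 := by
    intro x
    refine ⟨x, 1, one_mem _, ?_, by rw [one_mul]; rfl⟩
    rw [h _ (p.u_mem x), one_mul, mul_inv_cancel_right]
  exact p.mem_Z_of_comm (a.mem_of_sl p h1) h

/-- **Sylow 2-subgroups of `I` are TI.** -/
theorem ti {y z : A} (hz : z ∈ p.S) (hz1 : z ≠ 1) (h : y * z * y⁻¹ ∈ p.S) : cj y p.S = p.S := by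
  have hyK : cj y p.S ≤ I := by
    rintro _ ⟨s, hs, rfl⟩
    exact a.nor y s (p.S_le hs)
  obtain ⟨k, hk, hle⟩ := p.exists_cj_le (T := cj y p.S) (p.S_two.map _) hyK
  have heq : cj k (cj y p.S) = p.S := by
    apply eq_of_le_of_card_ge hle
    rw [card_cj, card_cj]
  have h1 : k * (y * z * y⁻¹) * k⁻¹ ∈ p.S := by
    rw [← heq]
    exact mem_cj_mul (mem_cj_mul hz)
  have h2 : y * z * y⁻¹ ≠ 1 := by
    intro h3
    apply hz1
    have : z = y⁻¹ * (y * z * y⁻¹) * y := by group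
    rw [this, h3]; group
  have h3 := p.mem_B_of hk h h2 h1
  have h4 : cj k p.S = p.S := p.cj_S_of_B h3
  have h5 : cj k⁻¹ p.S = p.S := by
    have h6 : cj k⁻¹ (cj k p.S) = p.S := by
      rw [← cj_mul, inv_mul_cancel]
      ext x
      rw [mem_cj]; simp
    rwa [h4] at h6
  have h6 : cj k⁻¹ (cj k (cj y p.S)) = cj y p.S := by
    rw [← cj_mul, inv_mul_cancel]
    ext x
    rw [mem_cj]; simp
  rw [heq, h5] at h6
  exact h6.symm

/-- 2-elements of the centraliser of `z` in `I` -/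
theorem two_mem {z y : A} (hz : z ∈ p.Z) (hz1 : z ≠ 1) (hy : y ∈ I) (hyz : y * z = z * y) (h2 : Two y) :
    y ∈ p.S := by
  have h1 : y ∈ p.B := p.mem_B_of hy (p.Z_le_S hz) hz1 (by
    rw [hyz, mul_inv_cancel_right]; exact p.Z_le_S hz)
  exact p.two_mem_S h1 h2

/-- the conjugate of `Z` -/
theorem cj_Z {y : A} (h : cj y p.S = p.S) {z : A} (hz : z ∈ p.Z) : y * z * y⁻¹ ∈ p.Z := by
  refine p.mem_Z_of_sq ?_ ?_
  · rw [← h]; exact mem_cj_mul (p.Z_le_S hz)
  · have e : y * z * y⁻¹ * (y * z * y⁻¹) = y * (z * z) * y⁻¹ := by group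
    rw [e, p.Z_sq hz]; group

end Amb

/-- a field automorphism of 2-power order fixing `wt l` for all `l` of norm one is trivial -/
theorem eq_one_of_wt_norm (hS : Sg σ n) {τ : F ≃+* F} (h2 : ∃ m : ℕ, τ ^ 2 ^ m = 1)
    (h : ∀ l : Fˣ, N n (l : F) = 1 → τ (wt σ l) = wt σ l) : τ = 1 := by
  by_contra hne
  -- the involution in `⟨τ⟩`
  obtain ⟨m, hm⟩ := h2
  have hex : ∃ k : ℕ, τ ^ 2 ^ k = 1 := ⟨m, hm⟩
  classical
  obtain ⟨j, hj⟩ : ∃ j, Nat.find hex = j + 1 := by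
    have h0 : Nat.find hex ≠ 0 := by
      intro h0
      have := Nat.find_spec hex
      rw [h0, pow_zero, pow_one] at this
      exact hne this
    exact Nat.exists_eq_succ_of_ne_zero h0
  have hj1 : τ ^ 2 ^ j ≠ 1 := Nat.find_min hex (by omega)
  have hj2 : τ ^ 2 ^ j * τ ^ 2 ^ j = 1 := by
    have := Nat.find_spec hex
    rw [hj, pow_succ, mul_comm, two_mul, pow_add] at this
    exact this
  have hbar := eq_bar hS.hq hj2 hj1
  obtain ⟨k, hk, hk3, -⟩ := exists_norm_one hS.hq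
  have hσk : σ (k : F) = (k : F)⁻¹ := by
    rw [hS.eq]
    exact eq_inv_of_mul_eq_one_right hk
  have hw : wt σ k = (k : F) ^ 3 := by
    unfold wt
    rw [hσk, inv_inv]; ring
  have hfix : ∀ i : ℕ, (τ ^ i) (wt σ k) = wt σ k := by
    intro i
    induction i with
    | zero => rfl
    | succ i ih =>
      rw [pow_succ]
      show (τ ^ i) (τ (wt σ k)) = _
      rw [h k hk, ih]
  have h3 := hfix (2 ^ j)
  rw [hbar, hw] at h3
  have h1 : bar n ((k : F) ^ 3) = (k : F) ^ 3 := h3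
  rw [bar_pow, ← hS.eq, hσk] at h1
  have h2 : ((k : F) ^ 3 - 1) ^ 2 = 0 := by
    have h3 : ((k : F) ^ 3) * (k : F) ^ 3 = 1 := by
      nth_rewrite 1 [← h1]
      rw [← mul_pow, inv_mul_cancel₀ k.ne_zero, one_pow]
    have := CharTwo.two_eq_zero (R := F)
    linear_combination h3 - ((k : F) ^ 3 - 1) * this
  exact hk3 (sub_eq_zero.mp ((pow_eq_zero_iff two_ne_zero).mp h2))

/-- the composition of semilinear maps -/
theorem sl_mul (p : Par I σ n) {x y : A} {c d : F} {τ υ : F ≃+* F} (h : SL p.u (⊥ : Subgroup A) x c τ)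
    (h' : SL p.u (⊥ : Subgroup A) y d υ) : SL p.u (⊥ : Subgroup A) (x * y) (c * τ d) (τ * υ) :=
  SL.mul (pw_bot p) (s := x) (s' := y) (by
    intro r hr
    exact ⟨1, 1, one_mem _, by rw [mem_bot.mp hr]; simp, rfl⟩) h h'

theorem sl_pow' (p : Par I σ n) {x : A} {c : F} {τ : F ≃+* F} (h : SL p.u (⊥ : Subgroup A) x c τ) (m : ℕ) :
    ∃ d : F, SL p.u (⊥ : Subgroup A) (x ^ m) d (τ ^ m) := by
  induction m with
  | zero => exact ⟨1, by rw [pow_zero, pow_zero]; exact SL.one⟩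
  | succ m ih =>
    obtain ⟨d, hd⟩ := ih
    rw [pow_succ, pow_succ]
    exact ⟨_, sl_mul p hd h⟩

/-- the torus acts by `wt` -/
theorem sl_d (p : Par I σ n) (l : Fˣ) : SL p.u (⊥ : Subgroup A) (p.d l) (wt σ l) 1 := by
  intro x
  refine ⟨act l x, 1, one_mem _, ?_, ?_⟩
  · rw [p.d_u, one_mul]
  · rw [act_a]; rfl

/-- elements of `S` act trivially -/
theorem sl_u (p : Par I σ n) {s : A} (hs : s ∈ p.S) : SL p.u (⊥ : Subgroup A) s 1 1 := by
  obtain ⟨y, rfl⟩ := hs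
  intro x
  refine ⟨y * x * y⁻¹, 1, one_mem _, ?_, ?_⟩
  · rw [map_mul, map_mul, map_inv, one_mul]
  · rw [mul_a, mul_a, inv_a, one_mul]
    show y.a + x.a + y.a = x.a
    rw [add_comm y.a x.a, add_assoc, CharTwo.add_self_eq_zero, add_zero]

/-- the field automorphism of a 2-element has 2-power order -/
theorem two_tau (p : Par I σ n) {x : A} {c : F} {τ : F ≃+* F} (h : SL p.u (⊥ : Subgroup A) x c τ) (h2 : Two x) :
    ∃ m : ℕ, τ ^ 2 ^ m = 1 := by
  obtain ⟨m, hm⟩ := h2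
  obtain ⟨d, hd⟩ := sl_pow' p h (2 ^ m)
  rw [hm] at hd
  exact ⟨m, (hd.unique p.hS (pw_bot p) SL.one).2⟩

namespace Amb

variable (a : Amb I) (p : Par I σ n)

include a

/-- **a 2-subgroup of `C_A(z)` normalised by `C_I(z)` is in `S`** -/
theorem le_S {z : A} (hz : z ∈ p.Z) (hz1 : z ≠ 1) {Q : Subgroup A} (hQ : IsPGroup 2 ↥Q)
    (hQz : ∀ q ∈ Q, q * z = z * q) (hn : ∀ k ∈ I, k * z = z * k → ∀ q ∈ Q, k * q * k⁻¹ ∈ Q) : Q ≤ p.S := by
  intro q hq
  have h2 : Two q := Two.of_mem hQ hq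
  have hS : cj q p.S = p.S := by
    apply a.ti p (p.Z_le_S hz) hz1
    rw [hQz q hq, mul_inv_cancel_right]
    exact p.Z_le_S hz
  obtain ⟨c, hc, τ, hsl⟩ := exists_sl p hS
  have hτ : τ = 1 := by
    apply eq_one_of_wt_norm p.hS (two_tau p hsl h2)
    intro l hl
    have h3 : p.d l * z = z * p.d l := p.d_comm_Z hl hz
    have h4 := hn _ (p.d_mem l) h3 _ (inv_mem hq)
    have h5 : q * (p.d l * q⁻¹ * (p.d l)⁻¹) ∈ Q := mul_mem hq h4
    have h6 : q * (p.d l * q⁻¹ * (p.d l)⁻¹) ∈ I := by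
      have e : q * (p.d l * q⁻¹ * (p.d l)⁻¹) = (q * p.d l * q⁻¹) * (p.d l)⁻¹ := by group
      rw [e]
      exact mul_mem (a.nor q _ (p.d_mem l)) (inv_mem (p.d_mem l))
    have h7 := a.two_mem p hz hz1 h6 (hQz _ h5) (Two.of_mem hQ h5)
    -- `q d = s d q`
    have h8 := sl_mul p (sl_mul p (sl_u p h7) (sl_d p l)) hsl
    have e : q * (p.d l * q⁻¹ * (p.d l)⁻¹) * p.d l * q = q * p.d l := by group
    rw [e] at h8
    have h9 := sl_mul p hsl (sl_d p l)
    have h10 := (h9.unique p.hS (pw_bot p) h8).1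
    have h11 : c * τ (wt σ l) = wt σ l * c := by
      rw [h10]
      show (1 * wt σ l) * c = _
      rw [one_mul]
    apply mul_left_cancel₀ hc
    rw [h11, mul_comm]
  subst hτ
  exact a.mem_of_sl_two p hsl h2

/-- conjugate a 2-subgroup into the normaliser of `S` -/
theorem exists_norm {Y : Subgroup A} (hY : IsPGroup 2 ↥Y) :
    ∃ g ∈ I, ∀ y ∈ Y, cj (g * y * g⁻¹) p.S = p.S := by
  -- a Sylow 2-subgroup of `A` containing a Sylow 2-subgroup of `I`
  obtain ⟨T, hT, hYT⟩ := exists_isSyl hY (le_top : Y ≤ (⊤ : Subgroup A))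
  have hTI := hT.inf (le_top : I ≤ ⊤) (fun t _ => a.mem_norm t)
  obtain ⟨g, hg, hle⟩ := p.exists_cj_le (hTI.two) (inf_le_right)
  have heq : cj g (T ⊓ I) = p.S := by
    apply eq_of_le_of_card_ge hle
    obtain ⟨k, hk, hk2⟩ := hTI.conj_into p.S_two p.S_le
    have h1 : cj k p.S ≤ T ⊓ I := by
      rintro _ ⟨s, hs, rfl⟩
      exact hk2 s hs
    rw [card_cj, ← card_cj k p.S]
    exact Subgroup.card_le_of_le h1
  refine ⟨g, hg, ?_⟩
  intro y hy
  have h1 : cj y (T ⊓ I) = T ⊓ I := by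
    apply cj_eq_of_mem_normalizer
    rw [mem_normalizer_iff]
    intro x
    have hyT := hYT hy
    constructor
    · intro h
      obtain ⟨h1, h2⟩ := mem_inf.mp h
      exact mem_inf.mpr ⟨T.mul_mem (T.mul_mem hyT h1) (T.inv_mem hyT), a.nor y x h2⟩
    · intro h
      obtain ⟨h1, h2⟩ := mem_inf.mp h
      have e : x = y⁻¹ * (y * x * y⁻¹) * y⁻¹⁻¹ := by group
      rw [e]
      exact mem_inf.mpr ⟨T.mul_mem (T.mul_mem (T.inv_mem hyT) h1) (T.inv_mem (T.inv_mem hyT)), a.nor y⁻¹ _ h2⟩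
  rw [← heq, ← cj_mul]
  have e : g * y * g⁻¹ * g = g * y := by group
  rw [e, cj_mul, h1]

/-- two commuting involutions normalising `S`: one of the three is inner -/
theorem inner_three {x y : A} (hx : cj x p.S = p.S) (hy : cj y p.S = p.S) (hx2 : x * x = 1) (hy2 : y * y = 1)
    (hxy : x * y = y * x) : x ∈ p.S ∨ y ∈ p.S ∨ x * y ∈ p.S := by
  obtain ⟨c, hc, τ, hsl⟩ := exists_sl p hx
  obtain ⟨d, hd, υ, hsl'⟩ := exists_sl p hy
  have h1 := sl_mul p hsl hsl
  rw [hx2] at h1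
  have h2 := (h1.unique p.hS (pw_bot p) SL.one).2
  have h3 := sl_mul p hsl' hsl'
  rw [hy2] at h3
  have h4 := (h3.unique p.hS (pw_bot p) SL.one).2
  by_cases ht : τ = 1
  · left
    subst ht
    exact a.mem_of_sl_two p hsl (Two.of_sq hx2)
  by_cases hu : υ = 1
  · right; left
    subst hu
    exact a.mem_of_sl_two p hsl' (Two.of_sq hy2)
  right; right
  have h5 : τ = υ := by rw [eq_bar p.hS.hq h2 ht, eq_bar p.hS.hq h4 hu]
  have h6 := sl_mul p hsl hsl'
  rw [← h5, h2] at h6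
  refine a.mem_of_sl_two p h6 (Two.of_sq ?_)
  calc x * y * (x * y) = x * (y * x) * y := by group
    _ = (x * x) * (y * y) := by rw [← hxy]; group
    _ = 1 := by rw [hx2, hy2, one_mul]

include p in
/-- the same for arbitrary commuting involutions -/
theorem inner_three' {x y : A} (hx2 : x * x = 1) (hy2 : y * y = 1) (hxy : x * y = y * x) :
    x ∈ I ∨ y ∈ I ∨ x * y ∈ I := by
  have hc : ∀ u ∈ closure ({x, y} : Set A), ∀ v ∈ closure ({x, y} : Set A), u * v = v * u := by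
    intro u hu v hv
    have h1 := closure_le_centralizer_centralizer ({x, y} : Set A) hu
    have hxy' : (closure ({x, y} : Set A)) ≤ centralizer ({x, y} : Set A) := by
      rw [closure_le]
      rintro w (rfl | rfl)
      · show w ∈ centralizer _
        rw [mem_centralizer_iff]
        rintro v (rfl | rfl)
        · rfl
        · exact hxy.symm
      · show w ∈ centralizer _
        rw [mem_centralizer_iff]
        rintro v (rfl | rfl)
        · exact hxy
        · rfl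
    exact (mem_centralizer_iff.mp h1 v (hxy' hv)).symm
  have hY : IsPGroup 2 ↥(closure ({x, y} : Set A)) := by
    have h1 : ∀ w ∈ closure ({x, y} : Set A), w * w = 1 := by
      intro w hw
      induction hw using closure_induction with
      | mem v hv =>
        rcases hv with rfl | rfl
        · exact hx2
        · exact hy2
      | one => rw [one_mul]
      | mul u v hu hv h1 h2 =>
        have := hc u hu v hv
        calc u * v * (u * v) = u * (v * u) * v := by group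
          _ = (u * u) * (v * v) := by rw [← this]; group
          _ = 1 := by rw [h1, h2, one_mul]
      | inv u hu h1 =>
        rw [← mul_inv_rev, h1, inv_one]
    rintro ⟨w, hw⟩
    exact ⟨1, Subtype.ext (by
      show w ^ 2 ^ 1 = 1
      rw [pow_one, pow_two]
      exact h1 w hw)⟩
  obtain ⟨g, hg, h⟩ := a.exists_norm p hY
  have hxm : x ∈ closure ({x, y} : Set A) := subset_closure (Set.mem_insert _ _)
  have hym : y ∈ closure ({x, y} : Set A) := subset_closure (Set.mem_insert_of_mem _ rfl)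
  have h1 : g * x * g⁻¹ * (g * x * g⁻¹) = 1 := by
    have e : g * x * g⁻¹ * (g * x * g⁻¹) = g * (x * x) * g⁻¹ := by group
    rw [e, hx2]; group
  have h2 : g * y * g⁻¹ * (g * y * g⁻¹) = 1 := by
    have e : g * y * g⁻¹ * (g * y * g⁻¹) = g * (y * y) * g⁻¹ := by group
    rw [e, hy2]; group
  have h3 : g * x * g⁻¹ * (g * y * g⁻¹) = g * y * g⁻¹ * (g * x * g⁻¹) := by
    have e : g * x * g⁻¹ * (g * y * g⁻¹) = g * (x * y) * g⁻¹ := by group
    rw [e, hxy]; group
  have back : ∀ w, g * w * g⁻¹ ∈ p.S → w ∈ I := by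
    intro w hw
    have h4 := a.nor g⁻¹ _ (p.S_le hw)
    have e : g⁻¹ * (g * w * g⁻¹) * g⁻¹⁻¹ = w := by group
    rwa [e] at h4
  rcases a.inner_three p (h x hxm) (h y hym) h1 h2 h3 with h4 | h4 | h4
  · exact Or.inl (back _ h4)
  · exact Or.inr (Or.inl (back _ h4))
  · refine Or.inr (Or.inr (back _ ?_))
    have e : g * (x * y) * g⁻¹ = g * x * g⁻¹ * (g * y * g⁻¹) := by group
    rw [e]
    exact h4


/-! ### Arbitrary Sylow 2-subgroups -/

include p in
theorem exists_cj {T : Subgroup A} (hT : IsSyl T I) : ∃ k ∈ I, cj k T = p.S := by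
  obtain ⟨k, hk, hle⟩ := p.exists_cj_le hT.two hT.le
  refine ⟨k, hk, ?_⟩
  apply eq_of_le_of_card_ge hle
  obtain ⟨m, hm, hm2⟩ := hT.conj_into p.S_two p.S_le
  have h1 : cj m p.S ≤ T := by
    rintro _ ⟨s, hs, rfl⟩
    exact hm2 s hs
  rw [card_cj, ← card_cj m p.S]
  exact Subgroup.card_le_of_le h1

theorem mem_iff_of_cj {k x : A} {T S : Subgroup A} (h : cj k T = S) : x ∈ T ↔ k * x * k⁻¹ ∈ S := by
  rw [← h, mem_cj]
  have e : k⁻¹ * (k * x * k⁻¹) * k = x := by group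
  rw [e]

include p in
/-- (T1) -/
theorem mem_T_of_comm {T : Subgroup A} (hT : IsSyl T I) {y : A} (h : ∀ s ∈ T, y * s = s * y) : y ∈ T := by
  obtain ⟨k, hk, hkS⟩ := a.exists_cj p hT
  rw [a.mem_iff_of_cj hkS]
  apply p.Z_le_S
  apply a.mem_Z_of_comm p
  intro s hs
  have h1 : k⁻¹ * s * k ∈ T := by
    rw [a.mem_iff_of_cj hkS]
    have e : k * (k⁻¹ * s * k) * k⁻¹ = s := by group
    rwa [e]
  have h2 := h _ h1
  calc k * y * k⁻¹ * s = k * (y * (k⁻¹ * s * k)) * k⁻¹ := by group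
    _ = k * (k⁻¹ * s * k * y) * k⁻¹ := by rw [h2]
    _ = s * (k * y * k⁻¹) := by group

include p in
/-- (T2) -/
theorem comm_T {T : Subgroup A} (hT : IsSyl T I) {z s : A} (hz : z ∈ T) (hz2 : z * z = 1) (hs : s ∈ T) :
    z * s = s * z := by
  obtain ⟨k, hk, hkS⟩ := a.exists_cj p hT
  rw [a.mem_iff_of_cj hkS] at hz hs
  have h1 : k * z * k⁻¹ ∈ p.Z := p.mem_Z_of_sq hz (by
    have e : k * z * k⁻¹ * (k * z * k⁻¹) = k * (z * z) * k⁻¹ := by group
    rw [e, hz2]; group)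
  have h2 := p.Z_comm h1 hs
  calc z * s = k⁻¹ * (k * z * k⁻¹ * (k * s * k⁻¹)) * k := by group
    _ = k⁻¹ * (k * s * k⁻¹ * (k * z * k⁻¹)) * k := by rw [h2]
    _ = s * z := by group

include p in
/-- (T3) -/
theorem ti_T {T : Subgroup A} (hT : IsSyl T I) {y z : A} (hz : z ∈ T) (hz1 : z ≠ 1) (h : y * z * y⁻¹ ∈ T) :
    cj y T = T := by
  obtain ⟨k, hk, hkS⟩ := a.exists_cj p hT
  have h1 : cj (k * y * k⁻¹) p.S = p.S := by
    apply a.ti p (z := k * z * k⁻¹)
    · rwa [← a.mem_iff_of_cj hkS]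
    · intro h1
      apply hz1
      have : z = k⁻¹ * (k * z * k⁻¹) * k := by group
      rw [this, h1]; group
    · rw [a.mem_iff_of_cj hkS] at h
      have e : k * y * k⁻¹ * (k * z * k⁻¹) * (k * y * k⁻¹)⁻¹ = k * (y * z * y⁻¹) * k⁻¹ := by group
      rwa [e]
  rw [← hkS, ← cj_mul] at h1
  have e : k * y * k⁻¹ * k = k * y := by group
  rw [e, cj_mul] at h1
  ext x
  constructor
  · intro hx
    have h2 : k * x * k⁻¹ ∈ cj k (cj y T) := mem_cj_mul hx
    rw [h1, mem_cj] at h2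
    have e2 : k⁻¹ * (k * x * k⁻¹) * k = x := by group
    rwa [e2] at h2
  · intro hx
    have h2 : k * x * k⁻¹ ∈ cj k T := mem_cj_mul hx
    rw [← h1, mem_cj] at h2
    have e2 : k⁻¹ * (k * x * k⁻¹) * k = x := by group
    rwa [e2] at h2

include p in
/-- (T4) -/
theorem le_T {T : Subgroup A} (hT : IsSyl T I) {z : A} (hz : z ∈ T) (hz1 : z ≠ 1) (hz2 : z * z = 1)
    {Q : Subgroup A} (hQ : IsPGroup 2 ↥Q) (hQz : ∀ q ∈ Q, q * z = z * q)
    (hn : ∀ k ∈ I, k * z = z * k → ∀ q ∈ Q, k * q * k⁻¹ ∈ Q) : Q ≤ T := by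
  obtain ⟨k, hk, hkS⟩ := a.exists_cj p hT
  have h1 : cj k Q ≤ p.S := by
    refine a.le_S p (z := k * z * k⁻¹) ?_ ?_ (hQ.map _) ?_ ?_
    · refine p.mem_Z_of_sq ?_ ?_
      · rwa [← a.mem_iff_of_cj hkS]
      · have e : k * z * k⁻¹ * (k * z * k⁻¹) = k * (z * z) * k⁻¹ := by group
        rw [e, hz2]; group
    · intro h1
      apply hz1
      have : z = k⁻¹ * (k * z * k⁻¹) * k := by group
      rw [this, h1]; group
    · intro q hq
      rw [mem_cj] at hq
      have h2 := hQz _ hq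
      calc q * (k * z * k⁻¹) = k * (k⁻¹ * q * k * z) * k⁻¹ := by group
        _ = k * (z * (k⁻¹ * q * k)) * k⁻¹ := by rw [h2]
        _ = k * z * k⁻¹ * q := by group
    · intro m hm hmz q hq
      rw [mem_cj] at hq ⊢
      have h2 := hn (k⁻¹ * m * k) (by
        have := a.nor k⁻¹ m hm
        rwa [inv_inv] at this) (by
          calc k⁻¹ * m * k * z = k⁻¹ * (m * (k * z * k⁻¹)) * k := by group
            _ = k⁻¹ * (k * z * k⁻¹ * m) * k := by rw [hmz]
            _ = z * (k⁻¹ * m * k) := by group) _ hq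
      have e : k⁻¹ * (m * q * m⁻¹) * k = k⁻¹ * m * k * (k⁻¹ * q * k) * (k⁻¹ * m * k)⁻¹ := by group
      rw [e]
      exact h2
  intro q hq
  rw [a.mem_iff_of_cj hkS]
  exact h1 (mem_cj_mul hq)

include p in
/-- (T5) -/
theorem T_not_comm {T : Subgroup A} (hT : IsSyl T I) : ∃ x ∈ T, ∃ y ∈ T, x * y ≠ y * x := by
  obtain ⟨k, hk, hkS⟩ := a.exists_cj p hT
  obtain ⟨s, hs, hsZ⟩ := p.exists_S_not_Z
  have h1 : ∃ s' ∈ p.S, s * s' ≠ s' * s := by
    by_contra hcon
    push Not at hcon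
    exact hsZ (p.mem_Z_of_comm hs hcon)
  obtain ⟨s', hs', hne⟩ := h1
  refine ⟨k⁻¹ * s * k, ?_, k⁻¹ * s' * k, ?_, ?_⟩
  · rw [a.mem_iff_of_cj hkS]
    have e : k * (k⁻¹ * s * k) * k⁻¹ = s := by group
    rwa [e]
  · rw [a.mem_iff_of_cj hkS]
    have e : k * (k⁻¹ * s' * k) * k⁻¹ = s' := by group
    rwa [e]
  · intro h
    apply hne
    calc s * s' = k * (k⁻¹ * s * k * (k⁻¹ * s' * k)) * k⁻¹ := by group
      _ = k * (k⁻¹ * s' * k * (k⁻¹ * s * k)) * k⁻¹ := by rw [h]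
      _ = s' * s := by group

include p in
/-- an elementary abelian 2-subgroup of `I` has order at most `q` -/
theorem card_le_of_le {Y : Subgroup A} (hY : ∀ y ∈ Y, y * y = 1) (hYI : Y ≤ I) : Nat.card ↥Y ≤ 2 ^ n := by
  have h2 : IsPGroup 2 ↥Y := by
    rintro ⟨w, hw⟩
    exact ⟨1, Subtype.ext (by
      show w ^ 2 ^ 1 = 1
      rw [pow_one, pow_two]
      exact hY w hw)⟩
  obtain ⟨k, hk, hle⟩ := p.exists_cj_le h2 hYI
  rw [← card_cj k Y, ← p.card_Z]
  apply Subgroup.card_le_of_le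
  rintro _ ⟨y, hy, rfl⟩
  refine p.mem_Z_of_sq (hle (mem_cj_mul hy)) ?_
  show k * y * k⁻¹ * (k * y * k⁻¹) = 1
  have e : k * y * k⁻¹ * (k * y * k⁻¹) = k * (y * y) * k⁻¹ := by group
  rw [e, hY y hy]; group

include p in
/-- **an elementary abelian 2-subgroup has order at most `2 q`** -/
theorem card_le {Y : Subgroup A} (hY : ∀ y ∈ Y, y * y = 1) : Nat.card ↥Y ≤ 2 * 2 ^ n := by
  have hc : ∀ x ∈ Y, ∀ y ∈ Y, x * y = y * x := by
    intro x hx y hy
    have h1 := hY _ (mul_mem hx hy)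
    have e1 : x⁻¹ = x := inv_eq_of_mul_eq_one_left (hY x hx)
    have e2 : y⁻¹ = y := inv_eq_of_mul_eq_one_left (hY y hy)
    have e3 : (x * y)⁻¹ = x * y := inv_eq_of_mul_eq_one_left h1
    rw [mul_inv_rev, e1, e2] at e3
    exact e3.symm
  have h0 : Nat.card ↥(Y ⊓ I) ≤ 2 ^ n := a.card_le_of_le p (fun y hy => hY y (mem_inf.mp hy).1) inf_le_right
  by_cases hYI : Y ≤ I
  · have := a.card_le_of_le p hY hYI
    omega
  obtain ⟨t, htY, htI⟩ := SetLike.not_le_iff_exists.mp hYI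
  have h1 : ∀ y ∈ Y, y ∈ Y ⊓ I ∨ t * y ∈ Y ⊓ I := by
    intro y hy
    rcases a.inner_three' p (hY t htY) (hY y hy) (hc t htY y hy) with h | h | h
    · exact absurd h htI
    · exact Or.inl (mem_inf.mpr ⟨hy, h⟩)
    · exact Or.inr (mem_inf.mpr ⟨mul_mem htY hy, h⟩)
  have h2 : Nat.card ↥Y ≤ Nat.card (Bool × ↥(Y ⊓ I)) := by
    classical
    apply Nat.card_le_card_of_injective
      (fun y : ↥Y => if h : (y : A) ∈ Y ⊓ I then ((true, ⟨y, h⟩) : Bool × ↥(Y ⊓ I))
        else (false, ⟨t * y, (h1 y y.2).resolve_left h⟩))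
    intro x y hxy
    dsimp only at hxy
    split_ifs at hxy with h3 h4 h4
    · have := congrArg (fun w : Bool × ↥(Y ⊓ I) => (w.2 : A)) hxy
      exact Subtype.ext this
    · exact absurd (congrArg Prod.fst hxy) (by simp)
    · exact absurd (congrArg Prod.fst hxy) (by simp)
    · have := congrArg (fun w : Bool × ↥(Y ⊓ I) => (w.2 : A)) hxy
      exact Subtype.ext (mul_left_cancel this)
  rw [Nat.card_prod, Nat.card_eq_fintype_card (α := Bool), Fintype.card_bool] at h2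
  omega

end Amb

end Cfsg.Agent.H298.UThree.Act
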