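import Cfsg.Agent.H298.UThree.Std

/-!
# S3151: the facts on automorphisms of `PSU₃(q)` at the level of `G`
-/

set_option autoImplicit false
set_option linter.unusedSectionVars false

namespace Cfsg.Agent.H298.UThree

open Subgroup Cfsg.Agent.OddHalf.D4.Basic
open Cfsg.Agent.OddHalf.D4.CommConj (cj mem_cj cj_mul card_cj cj_eq_of_mem_normalizer mem_normalizer_of_cj_eq
  mem_cj_mul)
open Cfsg.Agent.OddHalf.D4.U3.ParDefs
open Cfsg.Agent.H298.UThree.Act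

universe u v

variable {G : Type u} [Group G] [Finite G] {E K : Subgroup G} {A : Type u} [Group A] [Finite A]
  {π : ↥(normalizer (K : Set G)) →* A} {I : Subgroup A}

/-- the image of a subgroup in `A` -/
def im (π : ↥(normalizer (K : Set G)) →* A) (P : Subgroup G) : Subgroup A :=
  (P.subgroupOf (normalizer (K : Set G))).map π

theorem mem_im {P : Subgroup G} {x : G} (hx : x ∈ P) (hN : x ∈ normalizer (K : Set G)) : π ⟨x, hN⟩ ∈ im π P :=
  ⟨⟨x, hN⟩, mem_subgroupOf.mpr hx, rfl⟩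

theorem exists_of_mem_im {P : Subgroup G} {a : A} (h : a ∈ im π P) :
    ∃ x ∈ P, ∃ hN : x ∈ normalizer (K : Set G), π ⟨x, hN⟩ = a := by
  obtain ⟨x, hx, rfl⟩ := h
  exact ⟨x, mem_subgroupOf.mp hx, x.2, rfl⟩

theorem im_two {P : Subgroup G} (hP : IsPGroup 2 ↥P) : IsPGroup 2 ↥(im π P) := by
  have h1 : IsPGroup 2 ↥(P.subgroupOf (normalizer (K : Set G))) := hP.comap_subtype
  exact h1.map π

theorem odd_pow_mem {H : Subgroup G} {m : ℕ} (_hm : Odd m) {x : G} (h : x ^ m ∈ H) (h2 : Two x) (hx : Odd m) :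
    x ∈ H := by
  obtain ⟨k, hk⟩ := h2
  have h3 : Nat.Coprime m (2 ^ k) := Nat.Coprime.pow_right k (Nat.coprime_two_right.mpr hx)
  obtain ⟨u, v, huv⟩ := (Nat.isCoprime_iff_coprime (m := m) (n := 2 ^ k)).mpr h3
  have h4 : x = (x ^ m) ^ u := by
    have h5 : x ^ (u * (m : ℤ) + v * ((2 ^ k : ℕ) : ℤ)) = x := by rw [huv, zpow_one]
    rw [zpow_add, mul_comm v, zpow_mul x ((2 ^ k : ℕ) : ℤ) v, zpow_natCast, hk, one_zpow, mul_one,
      mul_comm u, zpow_mul, zpow_natCast] at h5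
    exact h5.symm
  rw [h4]
  exact zpow_mem h _

namespace Rep

variable (r : Rep K π I)

include r

theorem eq_iff {x y : ↥(normalizer (K : Set G))} : π x = π y ↔ (x : G)⁻¹ * y ∈ centralizer (K : Set G) := by
  have h0 : (x : G)⁻¹ * y ∈ centralizer (K : Set G) ↔ π (x⁻¹ * y) = 1 := (r.ker (x⁻¹ * y)).symm
  rw [h0]
  constructor
  · intro h
    rw [map_mul, map_inv, h, inv_mul_cancel]
  · intro h
    rw [map_mul, map_inv, inv_mul_eq_one] at h
    exact h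

/-- commuting images -/
theorem comm_iff {x y : ↥(normalizer (K : Set G))} :
    π x * π y = π y * π x ↔ (x : G) * y * (x : G)⁻¹ * (y : G)⁻¹ ∈ centralizer (K : Set G) := by
  have h1 := r.ker (x * y * x⁻¹ * y⁻¹)
  have h2 : ((x * y * x⁻¹ * y⁻¹ : ↥(normalizer (K : Set G))) : G) = (x : G) * y * (x : G)⁻¹ * (y : G)⁻¹ := rfl
  rw [h2] at h1
  rw [← h1, map_mul, map_mul, map_mul, map_inv, map_inv, mul_inv_eq_one, mul_inv_eq_iff_eq_mul]

theorem le_I {P : Subgroup G} (hP : P ≤ K) : im π P ≤ I := by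
  intro a ha
  obtain ⟨x, hx, hN, rfl⟩ := exists_of_mem_im ha
  exact r.le _ (hP hx)

theorem exists_mem {i : A} (hi : i ∈ I) : ∃ k, ∃ hk : k ∈ K, π ⟨k, le_normalizer hk⟩ = i := by
  obtain ⟨x, hx, rfl⟩ := r.ex i hi
  exact ⟨x, hx, rfl⟩

/-- the image of a Sylow 2-subgroup -/
theorem im_syl {P : Subgroup G} (hP : IsSyl P K) : IsSyl (im π P) I := by
  have hf2 : Fact (Nat.Prime 2) := ⟨Nat.prime_two⟩
  let f : ↥K →* ↥I :=
    { toFun := fun k => ⟨π ⟨k, le_normalizer k.2⟩, r.le _ k.2⟩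
      map_one' := Subtype.ext (map_one π)
      map_mul' := fun k l => Subtype.ext (by
        show π ⟨(k : G) * l, _⟩ = π ⟨k, _⟩ * π ⟨l, _⟩
        rw [← map_mul]
        rfl) }
  have hf : Function.Surjective f := by
    rintro ⟨i, hi⟩
    obtain ⟨x, hx, rfl⟩ := r.ex i hi
    exact ⟨⟨x, hx⟩, rfl⟩
  obtain ⟨Q, hQ⟩ := hP.toSylow
  have h1 := isSyl_of_sylow (Q.mapSurjective hf)
  have h2 : ((Q.mapSurjective hf : Sylow 2 ↥I) : Subgroup ↥I).map I.subtype = im π P := by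
    ext a
    constructor
    · rintro ⟨_, ⟨x, hx, rfl⟩, rfl⟩
      have hx' : x ∈ (Q : Subgroup ↥K) := hx
      rw [hQ, mem_subgroupOf] at hx'
      exact mem_im hx' _
    · intro ha
      obtain ⟨x, hx, hN, rfl⟩ := exists_of_mem_im ha
      refine ⟨f ⟨x, hP.le hx⟩, ⟨⟨x, hP.le hx⟩, ?_, rfl⟩, rfl⟩
      show (⟨x, hP.le hx⟩ : ↥K) ∈ (Q : Subgroup ↥K)
      rw [hQ, mem_subgroupOf]
      exact hx
  rwa [h2] at h1

end Rep

variable {F : Type v} [Field F] [Fintype F] [CharP F 2] {σ : F →+* F} [hσ : Fact (∀ x, σ (σ x) = x)] {n : ℕ}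

/-- the standing hypotheses -/
structure Env (E K : Subgroup G) (π : ↥(normalizer (K : Set G)) →* A) (I : Subgroup A) (σ : F →+* F)
    [hσ : Fact (∀ x, σ (σ x) = x)] (n : ℕ) : Prop where
  c : Cfg E K
  r : Rep K π I
  p : Nonempty (Par I σ n)

namespace Env

variable (v : Env E K π I σ n)

include v

/-- 2-elements of `P Z(K)` are in `P` -/
theorem mem_of_mul {P : Subgroup G} (hP : IsPGroup 2 ↥P) (hPK : P ≤ K) {x s : G} (hx : Two x) (hs : s ∈ P)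
    (h : s⁻¹ * x ∈ centralizer (K : Set G)) (hxK : x ∈ K) : x ∈ P := by
  have h1 : s⁻¹ * x ∈ K := mul_mem (inv_mem (hPK hs)) hxK
  have hc : s * (s⁻¹ * x) = s⁻¹ * x * s := mem_centralizer_iff.mp h s (hPK hs)
  have h2 : Two (s⁻¹ * x) := by
    refine (Two.of_mem hP (inv_mem hs)).mul hx ?_
    have e : s * (s⁻¹ * x) = x := by group
    rw [e] at hc
    calc s⁻¹ * x = s⁻¹ * (s⁻¹ * x * s) := by rw [← hc]
      _ = s⁻¹ * (s⁻¹ * (s * (s⁻¹ * x * s))) := by group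
      _ = s⁻¹ * (s⁻¹ * (s * x)) := by rw [← hc]
      _ = x * s⁻¹ := by
        have h3 : s * x = x * s := by
          calc s * x = s * (s⁻¹ * x * s) := by rw [← hc]
            _ = x * s := by group
        rw [h3]
        have h4 : s⁻¹ * (s⁻¹ * (x * s)) = s⁻¹ * (s⁻¹ * (s * x)) := by rw [h3]
        rw [h4, inv_mul_cancel_left]
        calc s⁻¹ * x = s⁻¹ * (x * s) * s⁻¹ := by group
          _ = s⁻¹ * (s * x) * s⁻¹ := by rw [h3]
          _ = x * s⁻¹ := by group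
  have h3 := v.c.w_eq_one h1 h h2
  have h4 : x = s := by
    rw [inv_mul_eq_one] at h3
    exact h3.symm
  rw [h4]; exact hs

/-- (G1) -/
theorem exists_of_comm {P : Subgroup G} (hP : IsSyl P K) {x : G} (hx : x ∈ normalizer (K : Set G))
    (h : ∀ s ∈ P, x * s = s * x) : ∃ s ∈ P, s⁻¹ * x ∈ centralizer (K : Set G) := by
  obtain ⟨p⟩ := v.p
  have h1 : π ⟨x, hx⟩ ∈ im π P := by
    apply v.r.amb.mem_T_of_comm p (v.r.im_syl hP)
    intro a ha
    obtain ⟨s, hs, hN, rfl⟩ := exists_of_mem_im ha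
    rw [← map_mul, ← map_mul]
    congr 1
    exact Subtype.ext (h s hs)
  obtain ⟨s, hs, hN, h2⟩ := exists_of_mem_im h1
  exact ⟨s, hs, v.r.eq_iff.mp h2⟩

/-- (G2) involutions of `P` are central in `P` -/
theorem comm_P {P : Subgroup G} (hP : IsSyl P K) {z s : G} (hz : z ∈ P) (hz2 : z * z = 1) (hs : s ∈ P) :
    z * s = s * z := by
  obtain ⟨p⟩ := v.p
  have hzN : z ∈ normalizer (K : Set G) := le_normalizer (hP.le hz)
  have hsN : s ∈ normalizer (K : Set G) := le_normalizer (hP.le hs)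
  have h1 := v.r.amb.comm_T p (v.r.im_syl hP) (mem_im hz hzN) (by
    rw [← map_mul]
    have : (⟨z, hzN⟩ * ⟨z, hzN⟩ : ↥(normalizer (K : Set G))) = 1 := Subtype.ext hz2
    rw [this, map_one]) (mem_im hs hsN)
  rw [v.r.comm_iff] at h1
  have h2 : z * s * z⁻¹ * s⁻¹ ∈ P := mul_mem (mul_mem (mul_mem hz hs) (inv_mem hz)) (inv_mem hs)
  have h3 := v.c.w_eq_one (hP.le h2) h1 (Two.of_mem hP.two h2)
  rwa [mul_inv_eq_one, mul_inv_eq_iff_eq_mul] at h3

/-- (G3) -/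
theorem ti_P {P : Subgroup G} (hP : IsSyl P K) {y z : G} (hy : y ∈ normalizer (K : Set G)) (hz : z ∈ P)
    (hz1 : z ≠ 1) (h : y * z * y⁻¹ ∈ P) : cj y P = P := by
  obtain ⟨p⟩ := v.p
  have hzN : z ∈ normalizer (K : Set G) := le_normalizer (hP.le hz)
  have hπz : π ⟨z, hzN⟩ ≠ 1 := by
    intro h1
    rw [v.r.ker] at h1
    exact hz1 (v.c.w_eq_one (hP.le hz) h1 (Two.of_mem hP.two hz))
  have h1 : cj (π ⟨y, hy⟩) (im π P) = im π P := by
    apply v.r.amb.ti_T p (v.r.im_syl hP) (mem_im hz hzN) hπz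
    rw [← map_mul, ← map_inv, ← map_mul]
    exact mem_im h (mul_mem (mul_mem hy hzN) (inv_mem hy))
  apply eq_of_le_of_card_ge
  · rintro _ ⟨s, hs, rfl⟩
    show y * s * y⁻¹ ∈ P
    have hsN : s ∈ normalizer (K : Set G) := le_normalizer (hP.le hs)
    have h2 : π ⟨y, hy⟩ * π ⟨s, hsN⟩ * (π ⟨y, hy⟩)⁻¹ ∈ im π P := by
      rw [← h1]; exact mem_cj_mul (mem_im hs hsN)
    rw [← map_mul, ← map_inv, ← map_mul] at h2
    obtain ⟨s', hs', hN', h3⟩ := exists_of_mem_im h2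
    refine v.mem_of_mul hP.two hP.le ((Two.of_mem hP.two hs).conj y) hs' ?_ ?_
    · exact v.r.eq_iff.mp h3
    · exact (mem_normalizer_iff.mp hy s).mp (hP.le hs)
  · rw [card_cj]

/-- (G4) -/
theorem not_comm {P : Subgroup G} (hP : IsSyl P K) : ∃ x ∈ P, ∃ y ∈ P, x * y ≠ y * x := by
  obtain ⟨p⟩ := v.p
  obtain ⟨a, ha, b, hb, hab⟩ := v.r.amb.T_not_comm p (v.r.im_syl hP)
  obtain ⟨x, hx, hxN, rfl⟩ := exists_of_mem_im ha
  obtain ⟨y, hy, hyN, rfl⟩ := exists_of_mem_im hb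
  refine ⟨x, hx, y, hy, ?_⟩
  intro h
  apply hab
  rw [← map_mul, ← map_mul]
  congr 1
  exact Subtype.ext h

theorem na : ∃ P ≤ K, IsPGroup 2 ↥P ∧ ∃ x ∈ P, ∃ y ∈ P, x * y ≠ y * x := by
  obtain ⟨P, hP, -⟩ := exists_isSyl (M := K) (Q := ⊥) (IsPGroup.of_bot) bot_le
  exact ⟨P, hP.le, hP.two, v.not_comm hP⟩

theorem isStandard : Cfsg.IsStandardSubgroup K := v.c.isStandard v.na

/-- (G5) elementary abelian subgroups acting faithfully -/
theorem card_le {Y : Subgroup G} (hY : ∀ y ∈ Y, y * y = 1) (hYN : Y ≤ normalizer (K : Set G))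
    (hYC : ∀ y ∈ Y, y ∈ centralizer (K : Set G) → y = 1) : Nat.card ↥Y ≤ 2 * 2 ^ n := by
  obtain ⟨p⟩ := v.p
  have h1 : Nat.card ↥(im π Y) ≤ 2 * 2 ^ n := by
    apply v.r.amb.card_le p
    intro a ha
    obtain ⟨y, hy, hN, rfl⟩ := exists_of_mem_im ha
    rw [← map_mul]
    have : (⟨y, hN⟩ * ⟨y, hN⟩ : ↥(normalizer (K : Set G))) = 1 := Subtype.ext (hY y hy)
    rw [this, map_one]
  refine le_trans ?_ h1
  apply Nat.card_le_card_of_injective (fun y : ↥Y => (⟨π ⟨y, hYN y.2⟩, mem_im y.2 _⟩ : ↥(im π Y)))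
  intro x y hxy
  have h2 : π ⟨x, hYN x.2⟩ = π ⟨y, hYN y.2⟩ := congrArg Subtype.val hxy
  rw [v.r.eq_iff] at h2
  have h3 := hYC _ (mul_mem (inv_mem x.2) y.2) h2
  rw [inv_mul_eq_one] at h3
  exact Subtype.ext h3

/-- (G5') elementary abelian subgroups of `K` -/
theorem card_le' {Y : Subgroup G} (hY : ∀ y ∈ Y, y * y = 1) (hYK : Y ≤ K) : Nat.card ↥Y ≤ 2 ^ n := by
  obtain ⟨p⟩ := v.p
  have h1 : Nat.card ↥(im π Y) ≤ 2 ^ n := by
    apply v.r.amb.card_le_of_le p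
    · intro a ha
      obtain ⟨y, hy, hN, rfl⟩ := exists_of_mem_im ha
      rw [← map_mul]
      have : (⟨y, hN⟩ * ⟨y, hN⟩ : ↥(normalizer (K : Set G))) = 1 := Subtype.ext (hY y hy)
      rw [this, map_one]
    · exact v.r.le_I hYK
  refine le_trans ?_ h1
  apply Nat.card_le_card_of_injective
    (fun y : ↥Y => (⟨π ⟨y, le_normalizer (hYK y.2)⟩, mem_im y.2 _⟩ : ↥(im π Y)))
  intro x y hxy
  have h2 : π ⟨x, le_normalizer (hYK x.2)⟩ = π ⟨y, le_normalizer (hYK y.2)⟩ := congrArg Subtype.val hxy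
  rw [v.r.eq_iff] at h2
  have h4 : (x : G)⁻¹ * y ∈ Y := mul_mem (inv_mem x.2) y.2
  have h3 := v.c.w_eq_one (hYK h4) h2 (Two.of_sq (hY _ h4))
  rw [inv_mul_eq_one] at h3
  exact Subtype.ext h3

/-- (G6) one of three commuting involutions is inner on `K` -/
theorem inner_three {x y : G} (hx : x ∈ normalizer (K : Set G)) (hy : y ∈ normalizer (K : Set G))
    (hx2 : x * x = 1) (hy2 : y * y = 1) (hxy : x * y = y * x) :
    (∃ k ∈ K, k⁻¹ * x ∈ centralizer (K : Set G)) ∨ (∃ k ∈ K, k⁻¹ * y ∈ centralizer (K : Set G)) ∨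
      (∃ k ∈ K, k⁻¹ * (x * y) ∈ centralizer (K : Set G)) := by
  obtain ⟨p⟩ := v.p
  have e1 : π ⟨x, hx⟩ * π ⟨x, hx⟩ = 1 := by
    rw [← map_mul]
    have : (⟨x, hx⟩ * ⟨x, hx⟩ : ↥(normalizer (K : Set G))) = 1 := Subtype.ext hx2
    rw [this, map_one]
  have e2 : π ⟨y, hy⟩ * π ⟨y, hy⟩ = 1 := by
    rw [← map_mul]
    have : (⟨y, hy⟩ * ⟨y, hy⟩ : ↥(normalizer (K : Set G))) = 1 := Subtype.ext hy2
    rw [this, map_one]
  have e3 : π ⟨x, hx⟩ * π ⟨y, hy⟩ = π ⟨y, hy⟩ * π ⟨x, hx⟩ := by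
    rw [← map_mul, ← map_mul]
    congr 1
    exact Subtype.ext hxy
  have key : ∀ (w : G) (hw : w ∈ normalizer (K : Set G)), π ⟨w, hw⟩ ∈ I →
      ∃ k ∈ K, k⁻¹ * w ∈ centralizer (K : Set G) := by
    intro w hw h
    obtain ⟨k, hk, h1⟩ := v.r.exists_mem h
    exact ⟨k, hk, v.r.eq_iff.mp h1⟩
  rcases v.r.amb.inner_three' p e1 e2 e3 with h | h | h
  · exact Or.inl (key x hx h)
  · exact Or.inr (Or.inl (key y hy h))
  · refine Or.inr (Or.inr (key (x * y) (mul_mem hx hy) ?_))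
    rw [← map_mul] at h
    exact h

/-- (G7) a 2-subgroup of `N(K)` centralising `z` (`z` an involution of `P`) and normalised by `C_K(z)` acts on `K`
as a subgroup of `P`. -/
theorem le_of {P : Subgroup G} (hP : IsSyl P K) {z : G} (hz : z ∈ P) (hz1 : z ≠ 1) (hz2 : z * z = 1)
    {Q : Subgroup G} (hQ : IsPGroup 2 ↥Q) (hQN : Q ≤ normalizer (K : Set G)) (hQz : ∀ q ∈ Q, q * z = z * q)
    (hn : ∀ k ∈ K, k * z = z * k → ∀ q ∈ Q, k * q * k⁻¹ ∈ Q) {q : G} (hq : q ∈ Q) :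
    ∃ s ∈ P, s⁻¹ * q ∈ centralizer (K : Set G) := by
  obtain ⟨p⟩ := v.p
  have hzN : z ∈ normalizer (K : Set G) := le_normalizer (hP.le hz)
  have h1 : im π Q ≤ im π P := by
    apply v.r.amb.le_T p (v.r.im_syl hP) (mem_im hz hzN) _ _ (im_two hQ)
    · intro a ha
      obtain ⟨q, hq, hN, rfl⟩ := exists_of_mem_im ha
      rw [← map_mul, ← map_mul]
      congr 1
      exact Subtype.ext (hQz q hq)
    · intro i hi hiz a ha
      obtain ⟨k, hk, rfl⟩ := v.r.exists_mem hi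
      obtain ⟨q, hq, hN, rfl⟩ := exists_of_mem_im ha
      rw [v.r.comm_iff] at hiz
      -- `[k, z] ∈ Z(K)` is a product of two involutions
      have hkz : k * z = z * k := by
        have h3 : k * z * k⁻¹ * z⁻¹ ∈ K :=
          mul_mem (mul_mem (mul_mem hk (hP.le hz)) (inv_mem hk)) (inv_mem (hP.le hz))
        have hzi : z⁻¹ = z := inv_eq_of_mul_eq_one_left hz2
        have h4 : Two (k * z * k⁻¹ * z⁻¹) := by
          refine ((Two.of_sq hz2).conj k).mul (Two.of_sq hz2).inv ?_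
          have h5 := mem_centralizer_iff.mp hiz z (hP.le hz)
          have h5' : z * (k * z * k⁻¹ * z⁻¹) = k * z * k⁻¹ * z⁻¹ * z := h5
          calc k * z * k⁻¹ * z⁻¹ = z⁻¹ * (z * (k * z * k⁻¹ * z⁻¹)) := by group
            _ = z⁻¹ * (k * z * k⁻¹ * z⁻¹ * z) := by rw [h5']
            _ = z⁻¹ * (k * z * k⁻¹) := by group
        have h6 := v.c.w_eq_one h3 hiz h4
        rwa [mul_inv_eq_one, mul_inv_eq_iff_eq_mul] at h6
      rw [← map_mul, ← map_inv, ← map_mul]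
      exact mem_im (hn k hk hkz q hq) (mul_mem (mul_mem (le_normalizer hk) hN) (inv_mem (le_normalizer hk)))
    · intro h2
      rw [v.r.ker] at h2
      exact hz1 (v.c.w_eq_one (hP.le hz) h2 (Two.of_mem hP.two hz))
    · rw [← map_mul]
      have : (⟨z, hzN⟩ * ⟨z, hzN⟩ : ↥(normalizer (K : Set G))) = 1 := Subtype.ext hz2
      rw [this, map_one]
  obtain ⟨s, hs, hN, h2⟩ := exists_of_mem_im (h1 (mem_im hq (hQN hq)))
  exact ⟨s, hs, v.r.eq_iff.mp h2⟩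

end Env

end Cfsg.Agent.H298.UThree
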