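import Cfsg.Agent.H298.UThree.Glob

/-!
# S3151: the facts of `Glob` without the representation
-/

set_option autoImplicit false
set_option linter.unusedSectionVars false

namespace Cfsg.Agent.H298.UThree

open Subgroup Cfsg.Agent.OddHalf.D4.Basic
open Cfsg.Agent.OddHalf.D4.CommConj (cj mem_cj cj_mul card_cj cj_eq_of_mem_normalizer mem_normalizer_of_cj_eq
  mem_cj_mul)

universe u v

/-- the hypotheses of S3151, S3314 in terms of `E` and `K = U₀`. -/
structure Hyp {G : Type u} [Group G] (E K : Subgroup G) (F : Type v) [Field F] [Fintype F] (n : ℕ) : Prop where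
  c : Cfg E K
  hn : 2 ≤ n
  hF : Fintype.card F = 4 ^ n
  iso : Nonempty ((↥K ⧸ center ↥K) ≃* Cfsg.PSU 3 F (2 ^ n))

variable {G : Type u} [Group G] {E K : Subgroup G} {F : Type v} [Field F] [Fintype F] {n : ℕ}

/-- the quotients by the centres of isomorphic groups -/
noncomputable def quotCenter {X Y : Type*} [Group X] [Group Y] (e : X ≃* Y) : (X ⧸ center X) ≃* (Y ⧸ center Y) :=
  QuotientGroup.congr _ _ e (by
    ext y
    constructor
    · rintro ⟨x, hx, rfl⟩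
      rw [mem_center_iff]
      intro z
      obtain ⟨w, rfl⟩ := e.surjective z
      have h := mem_center_iff.mp hx w
      show e w * e x = e x * e w
      rw [← map_mul, h, map_mul]
    · intro hy
      refine ⟨e.symm y, ?_, e.apply_symm_apply y⟩
      show e.symm y ∈ center X
      rw [mem_center_iff]
      intro w
      have h := mem_center_iff.mp hy (e w)
      apply e.injective
      rw [map_mul, map_mul, e.apply_symm_apply]
      exact h)

namespace Hyp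

theorem conj (h : Hyp E K F n) (g : G) : Hyp (cj g E) (cj g K) F n where
  c := h.c.conj g
  hn := h.hn
  hF := h.hF
  iso := by
    obtain ⟨e⟩ := h.iso
    exact ⟨(quotCenter (K.equivMapOfInjective (MulAut.conj g).toMonoidHom (MulAut.conj g).injective)).symm.trans e⟩

variable [Finite G]

theorem env (h : Hyp E K F n) : ∃ (A : Type u) (_ : Group A) (_ : Finite A) (_ : CharP F 2) (σ : F →+* F)
    (_ : Fact (∀ x, σ (σ x) = x)) (π : ↥(normalizer (K : Set G)) →* A) (I : Subgroup A), Env E K π I σ n := by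
  obtain ⟨A, i1, i2, i3, σ, i4, π, I, hr, hp⟩ := exists_rep h.c.qs h.hn h.hF h.iso
  exact ⟨A, i1, i2, i3, σ, i4, π, I, ⟨h.c, hr, hp⟩⟩

variable (h : Hyp E K F n)

include h

/-- (G1) -/
theorem exists_of_comm {P : Subgroup G} (hP : IsSyl P K) {x : G} (hx : x ∈ normalizer (K : Set G))
    (hc : ∀ s ∈ P, x * s = s * x) : ∃ s ∈ P, s⁻¹ * x ∈ centralizer (K : Set G) := by
  obtain ⟨A, i1, i2, i3, σ, i4, π, I, v⟩ := h.env
  exact v.exists_of_comm hP hx hc

/-- (G2) -/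
theorem comm_P {P : Subgroup G} (hP : IsSyl P K) {z s : G} (hz : z ∈ P) (hz2 : z * z = 1) (hs : s ∈ P) :
    z * s = s * z := by
  obtain ⟨A, i1, i2, i3, σ, i4, π, I, v⟩ := h.env
  exact v.comm_P hP hz hz2 hs

/-- (G3) -/
theorem ti_P {P : Subgroup G} (hP : IsSyl P K) {y z : G} (hy : y ∈ normalizer (K : Set G)) (hz : z ∈ P)
    (hz1 : z ≠ 1) (hyz : y * z * y⁻¹ ∈ P) : cj y P = P := by
  obtain ⟨A, i1, i2, i3, σ, i4, π, I, v⟩ := h.env
  exact v.ti_P hP hy hz hz1 hyz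

/-- (G4) -/
theorem not_comm {P : Subgroup G} (hP : IsSyl P K) : ∃ x ∈ P, ∃ y ∈ P, x * y ≠ y * x := by
  obtain ⟨A, i1, i2, i3, σ, i4, π, I, v⟩ := h.env
  exact v.not_comm hP

theorem na : ∃ P ≤ K, IsPGroup 2 ↥P ∧ ∃ x ∈ P, ∃ y ∈ P, x * y ≠ y * x := by
  obtain ⟨A, i1, i2, i3, σ, i4, π, I, v⟩ := h.env
  exact v.na

theorem isStandard : Cfsg.IsStandardSubgroup K := h.c.isStandard h.na

/-- (G5) -/
theorem card_le {Y : Subgroup G} (hY : ∀ y ∈ Y, y * y = 1) (hYN : Y ≤ normalizer (K : Set G))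
    (hYC : ∀ y ∈ Y, y ∈ centralizer (K : Set G) → y = 1) : Nat.card ↥Y ≤ 2 * 2 ^ n := by
  obtain ⟨A, i1, i2, i3, σ, i4, π, I, v⟩ := h.env
  exact v.card_le hY hYN hYC

/-- (G5') -/
theorem card_le' {Y : Subgroup G} (hY : ∀ y ∈ Y, y * y = 1) (hYK : Y ≤ K) : Nat.card ↥Y ≤ 2 ^ n := by
  obtain ⟨A, i1, i2, i3, σ, i4, π, I, v⟩ := h.env
  exact v.card_le' hY hYK

/-- (G6) -/
theorem inner_three {x y : G} (hx : x ∈ normalizer (K : Set G)) (hy : y ∈ normalizer (K : Set G))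
    (hx2 : x * x = 1) (hy2 : y * y = 1) (hxy : x * y = y * x) :
    (∃ k ∈ K, k⁻¹ * x ∈ centralizer (K : Set G)) ∨ (∃ k ∈ K, k⁻¹ * y ∈ centralizer (K : Set G)) ∨
      (∃ k ∈ K, k⁻¹ * (x * y) ∈ centralizer (K : Set G)) := by
  obtain ⟨A, i1, i2, i3, σ, i4, π, I, v⟩ := h.env
  exact v.inner_three hx hy hx2 hy2 hxy

/-- (G7) -/
theorem le_of {P : Subgroup G} (hP : IsSyl P K) {z : G} (hz : z ∈ P) (hz1 : z ≠ 1) (hz2 : z * z = 1)
    {Q : Subgroup G} (hQ : IsPGroup 2 ↥Q) (hQN : Q ≤ normalizer (K : Set G)) (hQz : ∀ q ∈ Q, q * z = z * q)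
    (hn : ∀ k ∈ K, k * z = z * k → ∀ q ∈ Q, k * q * k⁻¹ ∈ Q) {q : G} (hq : q ∈ Q) :
    ∃ s ∈ P, s⁻¹ * q ∈ centralizer (K : Set G) := by
  obtain ⟨A, i1, i2, i3, σ, i4, π, I, v⟩ := h.env
  exact v.le_of hP hz hz1 hz2 hQ hQN hQz hn hq

end Hyp

end Cfsg.Agent.H298.UThree
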