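import Cfsg.Agent.H298.UThree.TwoB
import Cfsg.Agent.S0282

/-!
# S3151: the configuration from the literal hypotheses
-/

set_option autoImplicit false
set_option linter.unusedSectionVars false

namespace Cfsg.Agent.H298.UThree

open Subgroup Cfsg.Agent.OddHalf.D4.Basic Cfsg.Agent.OddHalf.D4.U3.ParDefs Cfsg.Agent.StdU3.Semi
  Cfsg.Agent.StdU3.Field Cfsg.Agent.StdU3 Cfsg.Agent.SignalizersComponents

universe u v

variable {G : Type u} [Group G] [Finite G] {F : Type v} [Field F] [Fintype F] {n : ℕ}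

/-- `n ≥ 2` -/
theorem two_le_of_quasisimple {X : Type u} [Group X] (hq : Cfsg.IsQuasisimple X)
    (hF : Fintype.card F = 4 ^ n) (hX : Nonempty ((X ⧸ center X) ≃* Cfsg.PSU 3 F (2 ^ n))) : 2 ≤ n := by
  have h1 : 1 < Fintype.card F := Fintype.one_lt_card
  by_contra hcon
  have h2 : n = 0 ∨ n = 1 := by omega
  rcases h2 with rfl | rfl
  · rw [hF] at h1
    norm_num at h1
  · obtain ⟨e⟩ := hX
    rw [pow_one] at e
    have h3 : Group.IsSolvable (Cfsg.PSU 3 F 2) := (Cfsg.Agent.S0282.result (by rw [hF]; norm_num)).2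
    have h4 : Group.IsSolvable (X ⧸ center X) :=
      Group.isSolvable_of_isSolvable_injective (f := e.toMonoidHom) e.injective
    have h5 : Group.IsSolvable (center X) := Group.isSolvable_of_comm fun a b =>
      Subtype.ext (mem_center_iff.mp b.2 a)
    have h6 : Group.IsSolvable X :=
      Group.isSolvable_of_ker_le_range (center X).subtype (QuotientGroup.mk' (center X)) (by
        rw [QuotientGroup.ker_mk', Subgroup.range_subtype])
    exact Components.quasisimple_not_isSolvable hq h6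

/-- the order of the centre is odd -/
theorem odd_center_of {X : Type u} [Group X] [Finite X] (hq : Cfsg.IsQuasisimple X) (hn : 2 ≤ n)
    (hF : Fintype.card F = 4 ^ n) (hX : Nonempty ((X ⧸ center X) ≃* Cfsg.PSU 3 F (2 ^ n))) :
    Odd (Nat.card ↥(center X)) := by
  have hc : CharP F 2 := LZeroTop.charP_two hF
  have hqd := LZeroTop.qd hn hF
  let σ : F →+* F := iterateFrobenius F 2 n
  have hσ : ∀ x, σ x = bar n x := fun x => iterateFrobenius_def 2 n x
  have hfact : Fact (∀ x, σ (σ x) = x) := ⟨fun x => by rw [hσ, hσ, bar_bar hqd]⟩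
  have hS : Sg σ n := ⟨hqd, hσ⟩
  obtain ⟨R0⟩ := Cfsg.Agent.StdU3.URelModel.nonempty_urel (σ := σ) (n := n) (by omega) hσ
    (by rw [Nat.card_eq_fintype_card, hqd.hK])
  obtain ⟨f⟩ := hX
  exact Cover.odd_center hS hq.1.commutator_eq_top (R0.map f.symm)

/-- **the configuration** -/
theorem hyp_of {t : G} {E U U₀ : Subgroup G}
    (hEU : Cfsg.IsInternalDirectProduct E U (Subgroup.centralizer ({t} : Set G)))
    (hE : Cfsg.IsElementaryAbelian 2 E) (hE1 : E ≠ ⊥)
    (hU₀ : U₀ ≤ U) (hU₀n : (U₀.subgroupOf U).Normal) (hq : Cfsg.IsQuasisimple ↥U₀)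
    (hF : Fintype.card F = 4 ^ n)
    (hUX : Nonempty ((↥U₀ ⧸ Subgroup.center ↥U₀) ≃* Cfsg.PSU 3 F (2 ^ n)))
    (hCU : U ⊓ Subgroup.centralizer (U₀ : Set G) = (Subgroup.center ↥U₀).map U₀.subtype)
    (hC : ∀ e ∈ E, orderOf e = 2 → Subgroup.centralizer ({e} : Set G) = Subgroup.centralizer ({t} : Set G)) :
    Hyp E U₀ F n := by
  obtain ⟨hEC, hUC, hcomm, hinf, hsup⟩ := hEU
  have hn := two_le_of_quasisimple hq hF hUX
  have hsq : ∀ e ∈ E, e * e = 1 := by
    intro e he
    have := hE.2 e he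
    rwa [pow_two] at this
  have hord : ∀ e ∈ E, e ≠ 1 → orderOf e = 2 := fun e he he1 =>
    orderOf_eq_prime (by rw [pow_two]; exact hsq e he) he1
  have hmem : ∀ e ∈ E, e ≠ 1 → ∀ x : G, x * e = e * x → x ∈ centralizer ({t} : Set G) := by
    intro e he he1 x hx
    rw [← hC e he (hord e he he1), mem_centralizer_iff]
    rintro _ rfl
    exact hx.symm
  have hprod : ∀ x ∈ centralizer ({t} : Set G), ∃ f ∈ E, ∃ u ∈ U, x = f * u := by
    intro x hx
    rw [← hsup] at hx
    exact mem_sup_of_comm hcomm hx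
  refine ⟨⟨?_, hsq, ?_, ?_, ?_, ?_, hq, odd_center_of hq hn hF hUX⟩, hn, hF, hUX⟩
  · by_contra hcon
    push Not at hcon
    exact hE1 ((Subgroup.eq_bot_iff_forall E).mpr hcon)
  · intro e he he1 f hf x hx
    by_cases hf1 : f = 1
    · rw [hf1, mul_one, one_mul]
    · have h1 := hmem e he he1 x hx
      rw [← hC f hf (hord f hf hf1), mem_centralizer_iff] at h1
      exact (h1 f rfl).symm
  · exact fun e he k hk => hcomm e he k (hU₀ hk)
  · intro e he he1 x hx k hk
    obtain ⟨f, hf, u, hu, rfl⟩ := hprod x (hmem e he he1 x hx)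
    have h1 : u * k * u⁻¹ ∈ U₀ := by
      have := hU₀n.conj_mem ⟨k, hU₀ hk⟩ (mem_subgroupOf.mpr hk) ⟨u, hu⟩
      exact mem_subgroupOf.mp this
    have h2 := hcomm f hf _ (hU₀ h1)
    have h3 : f * u * k * (f * u)⁻¹ = u * k * u⁻¹ := by
      calc f * u * k * (f * u)⁻¹ = f * (u * k * u⁻¹) * f⁻¹ := by group
        _ = u * k * u⁻¹ := by rw [h2]; group
    rw [h3]; exact h1
  · intro e he he1 x hx hxK
    obtain ⟨f, hf, u, hu, rfl⟩ := hprod x (hmem e he he1 x hx)
    refine ⟨f, hf, u, ?_⟩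
    have h1 : u ∈ U ⊓ centralizer (U₀ : Set G) := by
      refine mem_inf.mpr ⟨hu, ?_⟩
      rw [mem_centralizer_iff]
      intro k hk
      have h2 := mem_centralizer_iff.mp hxK k hk
      have h3 := hcomm f hf k (hU₀ hk)
      have h4 : f * (k * u) = f * (u * k) := by
        calc f * (k * u) = f * k * u := by group
          _ = k * (f * u) := by rw [h3]; group
          _ = f * u * k := h2
          _ = f * (u * k) := by group
      exact mul_left_cancel h4
    rw [hCU] at h1
    obtain ⟨w, hw, rfl⟩ := h1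
    refine ⟨w.2, ?_, rfl⟩
    rw [mem_centralizer_iff]
    intro k hk
    exact congrArg Subtype.val (mem_center_iff.mp hw ⟨k, hk⟩)

/-- **the conclusion of S3151** -/
theorem Hyp.concl {E K : Subgroup G} (h : Hyp E K F n) :
    (∃ (P : Sylow 2 G) (Q : Subgroup G), Q ≠ ⊥ ∧ Cfsg.IsElementaryAbelian 2 Q ∧
      Cfsg.IsStronglyClosed Q (P : Subgroup G)) ∨ (Nat.card ↥E = 2 ∧ ∃ H : Subgroup G, Subgroup.IsComplement' E H) := by
  by_cases h4 : ∃ e ∈ E, ∃ f ∈ E, e ≠ 1 ∧ f ≠ 1 ∧ e ≠ f
  · left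
    obtain ⟨S, hS⟩ := h.strongly_closed_of_four h4
    refine ⟨S, E, ?_, ⟨⟨⟨fun x y => Subtype.ext (h.c.E_comm x.2 y.2)⟩⟩, ?_⟩, hS⟩
    · rintro rfl
      obtain ⟨e, he, he1⟩ := h.c.ne
      exact he1 (mem_bot.mp he)
    · intro x hx
      rw [pow_two]
      exact h.c.sq x hx
  · push Not at h4
    obtain ⟨t, ht, ht1⟩ := h.c.ne
    have hE : ∀ e ∈ E, e ≠ 1 → e = t := fun e he he1 => h4 e he t ht he1 ht1
    rcases h.two' ht ht1 hE with h1 | ⟨H, htH, hH⟩
    · exact Or.inl h1
    · right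
      have hEz : E = zpowers t := by
        apply le_antisymm
        · intro e he
          by_cases he1 : e = 1
          · rw [he1]; exact one_mem _
          · rw [hE e he he1]; exact mem_zpowers t
        · rw [zpowers_le]; exact ht
      refine ⟨?_, H, ?_⟩
      · rw [hEz, Nat.card_zpowers]
        exact orderOf_eq_prime (by rw [pow_two]; exact h.c.sq t ht) ht1
      · apply Subgroup.isComplement'_of_disjoint_and_mul_eq_univ
        · rw [disjoint_iff, eq_bot_iff]
          intro x hx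
          obtain ⟨hx1, hx2⟩ := mem_inf.mp hx
          rw [mem_bot]
          by_contra hx3
          rw [hE x hx1 hx3] at hx2
          exact htH hx2
        · rw [Set.eq_univ_iff_forall]
          intro g
          rcases hH g with h2 | h2
          · exact ⟨1, one_mem _, g, h2, one_mul g⟩
          · exact ⟨t⁻¹, inv_mem ht, t * g, h2, by group⟩

end Cfsg.Agent.H298.UThree
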