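import Cfsg.Prelude.Def_TwoFusion
import Cfsg.Agent.H298.UThree.Hyp
import Cfsg.Agent.OddHalf.D4.RkEnd.Tools

/-!
# S3151: `|E| ≥ 4` and `N(E P) ≤ N(K)` (`P ∈ Syl₂(K)`) imply that `E` is strongly closed
-/

set_option autoImplicit false
set_option linter.unusedSectionVars false

namespace Cfsg.Agent.H298.UThree

open Subgroup Cfsg.Agent.OddHalf.D4.Basic
open Cfsg.Agent.OddHalf.D4.CommConj (cj mem_cj cj_mul card_cj cj_eq_of_mem_normalizer mem_normalizer_of_cj_eq
  mem_cj_mul)
open Cfsg.Agent.OddHalf.D4.RkEnd.Tools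

universe u v

variable {G : Type u} [Group G] [Finite G] {E K E' K' : Subgroup G} {F : Type v} [Field F] [Fintype F] {n : ℕ}

theorem two_of_pow {Q : Subgroup G} (h : ∀ q ∈ Q, q * q = 1) : IsPGroup 2 ↥Q := by
  rintro ⟨w, hw⟩
  exact ⟨1, Subtype.ext (by
    show w ^ 2 ^ 1 = 1
    rw [pow_one, pow_two]
    exact h w hw)⟩

theorem zpowers_two {z : G} (hz : Two z) : IsPGroup 2 ↥(zpowers z) := by
  obtain ⟨k, hk⟩ := hz
  rw [IsPGroup.iff_card]
  obtain ⟨m, -, hm⟩ := (Nat.dvd_prime_pow Nat.prime_two).mp (orderOf_dvd_of_pow_eq_one hk)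
  exact ⟨m, by rw [Nat.card_zpowers, hm]⟩

/-- `E` acts on `K'` as inner automorphisms -/
theorem inner_form (h : Hyp E K F n) (h' : Hyp E' K' F n) (hEE : ∀ e ∈ E, ∀ f ∈ E', e * f = f * e)
    (hE : ∀ f ∈ E, f ∈ centralizer (K' : Set G) → f = 1) (h4 : ∃ e ∈ E, ∃ f ∈ E, e ≠ 1 ∧ f ≠ 1 ∧ e ≠ f) :
    ∃ P, IsSyl P K' ∧ ∃ z ∈ P, z ≠ 1 ∧ z * z = 1 ∧ (∃ e ∈ E, e ≠ 1 ∧ ∃ f ∈ E', e = z * f) ∧
      ∀ s ∈ P, ∀ f ∈ E, s * f = f * s := by
  obtain ⟨x, hx, hx1⟩ := h'.c.ne
  have hN : ∀ e ∈ E, e ∈ normalizer (K' : Set G) := by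
    intro e he
    apply mem_normalizer_of_cj_eq
    apply eq_of_le_of_card_ge
    · rintro _ ⟨k, hk, rfl⟩
      exact h'.c.nor x hx hx1 e (hEE e he x hx) k hk
    · rw [card_cj]
  have key : ∃ e ∈ E, e ≠ 1 ∧ ∃ k ∈ K', k⁻¹ * e ∈ centralizer (K' : Set G) := by
    obtain ⟨e, he, f, hf, he1, hf1, hef⟩ := h4
    rcases h'.inner_three (hN e he) (hN f hf) (h.c.sq e he) (h.c.sq f hf) (h.c.E_comm he hf) with h1 | h1 | h1
    · exact ⟨e, he, he1, h1⟩
    · exact ⟨f, hf, hf1, h1⟩
    · refine ⟨e * f, mul_mem he hf, ?_, h1⟩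
      intro h2
      apply hef
      have h3 := h.c.sq f hf
      rw [← h3] at h2
      exact mul_right_cancel h2
  obtain ⟨e, he, he1, k, hk, hke⟩ := key
  have hxk : x * k = k * x := h'.c.Kc x hx k hk
  have hxe := hEE e he x hx
  obtain ⟨f, hf, w, hw, hwc, hfw⟩ := h'.c.cK x hx hx1 (k⁻¹ * e) (by
    calc k⁻¹ * e * x = k⁻¹ * (x * e) := by rw [← hxe]; group
      _ = k⁻¹ * (x * k) * k⁻¹ * e := by group
      _ = x * (k⁻¹ * e) := by rw [hxk]; group) hke
  have hfw' : f * w = w * f := h'.c.Kc f hf w hw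
  have hez : e = k * w * f := by
    calc e = k * (k⁻¹ * e) := by group
      _ = k * (f * w) := by rw [hfw]
      _ = k * w * f := by rw [hfw']; group
  have hzK : k * w ∈ K' := mul_mem hk hw
  have hf2 := h'.c.sq f hf
  have hze : k * w = e * f := by
    rw [hez, mul_assoc, hf2, mul_one]
  have hz2 : k * w * (k * w) = 1 := by
    rw [hze]
    calc e * f * (e * f) = e * (f * e) * f := by group
      _ = (e * e) * (f * f) := by rw [← hEE e he f hf]; group
      _ = 1 := by rw [h.c.sq e he, hf2, one_mul]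
  have hz1 : k * w ≠ 1 := by
    intro h1
    rw [h1, one_mul] at hez
    exact he1 (hE e he (by rw [hez]; exact h'.c.E_le hf))
  obtain ⟨P, hP, hzP⟩ := exists_isSyl (M := K') (zpowers_two (Two.of_sq hz2)) (by rwa [zpowers_le])
  have hz : k * w ∈ P := hzP (mem_zpowers _)
  refine ⟨P, hP, k * w, hz, hz1, hz2, ⟨e, he, he1, f, hf, hez⟩, ?_⟩
  intro s hs a ha
  apply h.c.cen e he he1 a ha
  have h1 := h'.comm_P hP hz hz2 hs
  have h2 := h'.c.Kc f hf s (hP.le hs)
  calc s * e = s * (k * w) * f := by rw [hez]; group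
    _ = k * w * (s * f) := by rw [← h1]; group
    _ = e * s := by rw [← h2, hez]; group

/-- 2-subgroups of `C(E) ∩ C(E')` -/
theorem le_of_inner (h : Hyp E K F n) {P : Subgroup G} (hP : IsSyl P K) {z : G} (hz : z ∈ P) (hz1 : z ≠ 1)
    (hz2 : z * z = 1) {e' : G} (hcen' : ∀ f ∈ E', ∀ x, x * e' = e' * x → x * f = f * x)
    {f : G} (hf : f ∈ E) (hef : e' = z * f) {R : Subgroup G} (hR : IsPGroup 2 ↥R)
    (hRE : ∀ r ∈ R, ∀ e ∈ E, r * e = e * r) (hRE' : ∀ r ∈ R, r * e' = e' * r)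
    (hn : ∀ k : G, (∀ e ∈ E, k * e = e * k) → (∀ e ∈ E', k * e = e * k) → ∀ r ∈ R, k * r * k⁻¹ ∈ R) :
    R ≤ E ⊔ P := by
  obtain ⟨t, ht, ht1⟩ := h.c.ne
  have hcomm : ∀ e ∈ E, ∀ p ∈ P, e * p = p * e := fun e he p hp => h.c.Kc e he p (hP.le hp)
  intro q hq
  obtain ⟨s, hs, hsq⟩ := h.le_of hP hz hz1 hz2 hR (by
    intro r hr
    apply mem_normalizer_of_cj_eq
    apply eq_of_le_of_card_ge
    · rintro _ ⟨k, hk, rfl⟩
      exact h.c.nor t ht ht1 r (hRE r hr t ht) k hk
    · rw [card_cj]) (by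
    intro r hr
    have h1 := hRE' r hr
    have h2 := hRE r hr f hf
    rw [hef] at h1
    calc r * z = r * (z * f) * f⁻¹ := by group
      _ = z * f * r * f⁻¹ := by rw [h1]
      _ = z * (f * r) * f⁻¹ := by group
      _ = z * r := by rw [← h2]; group) (by
    intro k hk hkz r hr
    have hkE : ∀ e ∈ E, k * e = e * k := fun e he => (h.c.Kc e he k hk).symm
    refine hn k hkE ?_ r hr
    intro g hg
    apply hcen' g hg
    rw [hef]
    calc k * (z * f) = (k * z) * f := by group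
      _ = z * (k * f) := by rw [hkz]; group
      _ = z * f * k := by rw [hkE f hf]; group) hq
  obtain ⟨g, hg, w, hw, hwc, hgw⟩ := h.c.cK t ht ht1 (s⁻¹ * q) (by
    have h1 := hcomm t ht s hs
    have h2 := hRE q hq t ht
    calc s⁻¹ * q * t = s⁻¹ * (t * q) := by rw [← h2]; group
      _ = s⁻¹ * (t * s) * s⁻¹ * q := by group
      _ = t * (s⁻¹ * q) := by rw [h1]; group) hsq
  have hq' : q = s * g * w := by
    calc q = s * (s⁻¹ * q) := by group
      _ = s * g * w := by rw [hgw]; group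
  have hsg : Two (s * g) := (Two.of_mem hP.two hs).mul (Two.of_mem h.c.E_two hg) (hcomm g hg s hs).symm
  have hwsg : s * g * w = w * (s * g) := by
    have h1 := mem_centralizer_iff.mp hwc s (hP.le hs)
    have h2 := h.c.Kc g hg w hw
    calc s * g * w = s * (g * w) := by group
      _ = (s * w) * g := by rw [h2]; group
      _ = w * (s * g) := by rw [h1]; group
  have hw1 : w = 1 := by
    apply h.c.w_eq_one hw hwc
    have e : w = (s * g)⁻¹ * q := by rw [hq']; group
    rw [e]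
    refine hsg.inv.mul (Two.of_mem hR hq) ?_
    rw [hq']
    calc (s * g)⁻¹ * (s * g * w) = w := by group
      _ = w * (s * g) * (s * g)⁻¹ := by group
      _ = s * g * w * (s * g)⁻¹ := by rw [hwsg]
  rw [hq', hw1, mul_one, hcomm g hg s hs |>.symm]
  exact mul_mem (mem_sup_left hg) (mem_sup_right hs)

/-- `E P` is a 2-group -/
theorem sup_two {P : Subgroup G} (hE : IsPGroup 2 ↥E) (hP : IsPGroup 2 ↥P)
    (hcomm : ∀ e ∈ E, ∀ p ∈ P, e * p = p * e) : IsPGroup 2 ↥(E ⊔ P : Subgroup G) := by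
  have h1 : E ≤ normalizer (P : Set G) := by
    intro e he
    rw [mem_normalizer_iff]
    intro p
    constructor
    · intro hp
      rw [hcomm e he p hp, mul_inv_cancel_right]
      exact hp
    · intro hp
      have h2 := hcomm _ (inv_mem he) _ hp
      have e1 : p = e⁻¹ * (e * p * e⁻¹) * e⁻¹⁻¹ := by group
      rw [h2] at e1
      rw [e1]
      simpa using hp
  rintro ⟨x, hx⟩
  have hx' : x ∈ ((E ⊔ P : Subgroup G) : Set G) := hx
  rw [coe_mul_of_left_le_normalizer_right E P h1] at hx'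
  obtain ⟨e, he, p, hp, rfl⟩ := hx'
  obtain ⟨k, hk⟩ := (Two.of_mem hE he).mul (Two.of_mem hP hp) (hcomm e he p hp)
  exact ⟨k, Subtype.ext hk⟩

/-- the core of the fusion argument -/
theorem fusion_core (h : Hyp E K F n) (h4 : ∃ e ∈ E, ∃ f ∈ E, e ≠ 1 ∧ f ≠ 1 ∧ e ≠ f)
    (hN : ∀ P, IsSyl P K → normalizer ((E ⊔ P : Subgroup G) : Set G) ≤ normalizer (K : Set G))
    {e g : G} (he : e ∈ E) (he1 : e ≠ 1) (hx : ∀ f ∈ E, g * e * g⁻¹ * f = f * (g * e * g⁻¹)) :
    g * e * g⁻¹ ∈ E := by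
  by_contra hxE
  set x := g * e * g⁻¹ with hxdef
  have h' := h.conj g
  have hxE' : x ∈ cj g E := mem_cj_mul he
  have hx1 : x ≠ 1 := by
    intro h1
    apply he1
    have : e = g⁻¹ * (g * e * g⁻¹) * g := by group
    rw [this, ← hxdef, h1]; group
  have hEE : ∀ e ∈ E, ∀ f ∈ cj g E, e * f = f * e := by
    intro a ha b hb
    exact h'.c.cen x hxE' hx1 b hb a (hx a ha).symm
  have hneK : cj g K ≠ K := by
    intro h1
    apply hxE
    refine h.c.mem_E he he1 (hx e he) ?_ (Two.of_mem h'.c.E_two hxE')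
    have h2 := h'.c.E_le hxE'
    rwa [h1] at h2
  have ord : ∀ y : G, y * y = 1 → y ≠ 1 → orderOf y = 2 := fun y h1 h2 =>
    orderOf_eq_prime (by rw [pow_two]; exact h1) h2
  have hE : ∀ f ∈ E, f ∈ centralizer (cj g K : Set G) → f = 1 := by
    intro f hf hfc
    by_contra hf1
    exact hneK (h.c.eq_of h.na (h.c.E_le hf) (ord f (h.c.sq f hf) hf1) hfc)
  have hE' : ∀ f ∈ cj g E, f ∈ centralizer (K : Set G) → f = 1 := by
    intro f hf hfc
    by_contra hf1
    exact hneK (h.c.eq_of h.na hfc (ord f (h'.c.sq f hf) hf1) (h'.c.E_le hf))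
  have h4' : ∃ e ∈ cj g E, ∃ f ∈ cj g E, e ≠ 1 ∧ f ≠ 1 ∧ e ≠ f := by
    obtain ⟨a, ha, b, hb, ha1, hb1, hab⟩ := h4
    refine ⟨g * a * g⁻¹, mem_cj_mul ha, g * b * g⁻¹, mem_cj_mul hb, ?_, ?_, ?_⟩
    · intro h1
      apply ha1
      have : a = g⁻¹ * (g * a * g⁻¹) * g := by group
      rw [this, h1]; group
    · intro h1
      apply hb1
      have : b = g⁻¹ * (g * b * g⁻¹) * g := by group
      rw [this, h1]; group
    · intro h1
      apply hab
      have : a = g⁻¹ * (g * a * g⁻¹) * g := by group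
      rw [this, h1]; group
  obtain ⟨P', hP', z', hz', hz1', hz2', ⟨e₀, he₀, he₀1, f', hf', hef'⟩, hc'⟩ := inner_form h h' hEE hE h4
  obtain ⟨P, hP, z, hz, hz1, hz2, ⟨e₀', he₀', he₀1', f, hf, hef⟩, hc⟩ :=
    inner_form h' h (fun a ha b hb => (hEE b hb a ha).symm) hE' h4'
  have hEP : ∀ e ∈ E, ∀ p ∈ P, e * p = p * e := fun e he p hp => h.c.Kc e he p (hP.le hp)
  have hEP' : ∀ e ∈ cj g E, ∀ p ∈ P', e * p = p * e := fun e he p hp => h'.c.Kc e he p (hP'.le hp)
  have two1 := sup_two h.c.E_two hP.two hEP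
  have two2 := sup_two h'.c.E_two hP'.two hEP'
  -- the second group lies in the first
  have le1 : cj g E ⊔ P' ≤ E ⊔ P := by
    refine le_of_inner (E' := cj g E) h hP hz hz1 hz2
      (fun a ha y hy => h'.c.cen e₀' he₀' he₀1' a ha y hy) hf hef two2 ?_ ?_ ?_
    · intro r hr e he
      have h1 : cj g E ⊔ P' ≤ centralizer (E : Set G) := by
        refine sup_le ?_ ?_
        · intro y hy
          rw [mem_centralizer_iff]
          intro a ha
          exact hEE a ha y hy
        · intro y hy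
          rw [mem_centralizer_iff]
          intro a ha
          exact (hc' y hy a ha).symm
      exact (mem_centralizer_iff.mp (h1 hr) e he).symm
    · intro r hr
      have h1 : cj g E ⊔ P' ≤ centralizer (cj g E : Set G) := by
        refine sup_le ?_ ?_
        · intro y hy
          rw [mem_centralizer_iff]
          intro a ha
          exact h'.c.E_comm ha hy
        · intro y hy
          rw [mem_centralizer_iff]
          intro a ha
          exact hEP' a ha y hy
      exact (mem_centralizer_iff.mp (h1 hr) e₀' he₀').symm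
    · intro k hkE hkE' r hr
      -- `k` normalises `P'`
      have hkN : k ∈ normalizer (cj g K : Set G) := by
        apply mem_normalizer_of_cj_eq
        apply eq_of_le_of_card_ge
        · rintro _ ⟨y, hy, rfl⟩
          exact h'.c.nor x hxE' hx1 k (hkE' x hxE') y hy
        · exact (card_cj _ _).ge
      have hkz : k * z' * k⁻¹ = z' := by
        have h1 : z' = e₀ * f' := by
          rw [hef', mul_assoc, h'.c.sq f' hf', mul_one]
        rw [mul_inv_eq_iff_eq_mul, h1]
        calc k * (e₀ * f') = (k * e₀) * f' := by group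
          _ = e₀ * (k * f') := by rw [hkE e₀ he₀]; group
          _ = e₀ * f' * k := by rw [hkE' f' hf']; group
      have hkP : cj k P' = P' := h'.ti_P hP' hkN hz' hz1' (by rw [hkz]; exact hz')
      have hkE2 : cj k (cj g E) = cj g E := by
        apply eq_of_le_of_card_ge
        · rintro _ ⟨y, hy, rfl⟩
          show k * y * k⁻¹ ∈ _
          rw [hkE' y hy, mul_inv_cancel_right]
          exact hy
        · exact (card_cj _ _).ge
      have h2 : cj k (cj g E ⊔ P') = cj g E ⊔ P' := by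
        show Subgroup.map _ _ = _
        rw [Subgroup.map_sup]
        show cj k (cj g E) ⊔ cj k P' = _
        rw [hkE2, hkP]
      rw [← h2]
      exact mem_cj_mul hr
  -- they are conjugate
  have hPg : IsSyl (cj g P) (cj g K) := hP.cj g
  obtain ⟨m, hm, hmP⟩ := hP'.conj_into hPg.two hPg.le
  have hmP' : cj m (cj g P) = P' := by
    have h1 : cj m (cj g P) ≤ P' := by
      rintro _ ⟨y, hy, rfl⟩
      exact hmP y hy
    apply eq_of_le_of_card_ge h1
    rw [card_cj]
    exact card_le_of_syl hPg hP'.two hP'.le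
  have hmE : cj m (cj g E) = cj g E := by
    apply eq_of_le_of_card_ge
    · rintro _ ⟨y, hy, rfl⟩
      show m * y * m⁻¹ ∈ _
      rw [← h'.c.Kc y hy m hm, mul_inv_cancel_right]
      exact hy
    · exact (card_cj _ _).ge
  have h2 : cj (m * g) (E ⊔ P) = cj g E ⊔ P' := by
    rw [cj_mul]
    show Subgroup.map _ (Subgroup.map _ _) = _
    rw [Subgroup.map_sup, Subgroup.map_sup]
    show cj m (cj g E) ⊔ cj m (cj g P) = _
    rw [hmE, hmP']
  have h3 : cj (m * g) (E ⊔ P) = E ⊔ P := by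
    rw [h2]
    apply eq_of_le_of_card_ge le1
    rw [← h2, card_cj]
  have h5 : m * g ∈ normalizer (K : Set G) := hN P hP (mem_normalizer_of_cj_eq h3)
  apply hneK
  have h6 := cj_eq_of_mem_normalizer h5
  rw [cj_mul] at h6
  have h7 : cj m (cj g K) = cj g K := cj_eq_of_mem_normalizer (le_normalizer hm)
  rw [← h7]
  exact h6

/-- **`E` is strongly closed in a Sylow 2-subgroup.** -/
theorem strongly_closed (h : Hyp E K F n) (h4 : ∃ e ∈ E, ∃ f ∈ E, e ≠ 1 ∧ f ≠ 1 ∧ e ≠ f)
    (hN : ∀ P, IsSyl P K → normalizer ((E ⊔ P : Subgroup G) : Set G) ≤ normalizer (K : Set G)) :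
    ∃ S : Sylow 2 G, Cfsg.IsStronglyClosed E (S : Subgroup G) := by
  have hf2 : Fact (Nat.Prime 2) := ⟨Nat.prime_two⟩
  obtain ⟨t, ht, ht1⟩ := h.c.ne
  have hEC : E ≤ centralizer ({t} : Set G) := by
    intro e he
    rw [mem_cent1]
    exact h.c.E_comm he ht
  obtain ⟨S, hS, hES⟩ := exists_isSyl h.c.E_two hEC
  have hcE : ∀ x ∈ centralizer ({t} : Set G), ∀ f ∈ E, x * f = f * x := by
    intro x hx f hf
    exact h.c.cen t ht ht1 f hf x (mem_cent1.mp hx)
  -- closure in `S`
  have hcl : ∀ e ∈ E, ∀ g : G, g * e * g⁻¹ ∈ S → g * e * g⁻¹ ∈ E := by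
    intro e he g hg
    by_cases he1 : e = 1
    · rw [he1]
      have : g * 1 * g⁻¹ = 1 := by group
      rw [this]
      exact one_mem E
    · exact fusion_core h h4 hN he he1 (hcE _ (hS.le hg))
  -- `S` is a Sylow subgroup of `G`
  obtain ⟨T, hST⟩ := hS.two.exists_le_sylow
  have hTS : S = (T : Subgroup G) := by
    symm
    apply Cfsg.Agent.Blocks.SylowIn.eq_of_normalizer_inf_le T.2 hST
    intro x hx
    obtain ⟨hx1, hx2⟩ := mem_inf.mp hx
    have hxE : ∀ e ∈ E, x * e * x⁻¹ ∈ E := by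
      intro e he
      apply hcl e he
      exact (mem_normalizer_iff.mp hx1 e).mp (hES he)
    have hxN : x ∈ normalizer (E : Set G) := by
      apply mem_normalizer_of_cj_eq
      apply eq_of_le_of_card_ge
      · rintro _ ⟨y, hy, rfl⟩
        exact hxE y hy
      · exact (card_cj _ _).ge
    -- a 2-group normalising `E`
    have hR2 : IsPGroup 2 ↥((T : Subgroup G) ⊓ normalizer (E : Set G) : Subgroup G) := T.2.to_le inf_le_left
    have hER : E ≤ (T : Subgroup G) ⊓ normalizer (E : Set G) := le_inf (hES.trans hST) le_normalizer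
    obtain ⟨z, hz, hz2, hzc⟩ := exists_central_invol hR2 hER (by
      rintro rfl
      exact ht1 (mem_bot.mp ht)) (fun r hr e he => (mem_normalizer_iff.mp (mem_inf.mp hr).2 e).mp he)
    have hz1 : z ≠ 1 := by
      rintro rfl
      rw [orderOf_one] at hz2
      omega
    have hRC : ((T : Subgroup G) ⊓ normalizer (E : Set G) : Subgroup G) ≤ centralizer ({t} : Set G) := by
      intro r hr
      rw [mem_cent1]
      exact h.c.cen z hz hz1 t ht r (hzc r hr)
    have hSR : S ≤ (T : Subgroup G) ⊓ normalizer (E : Set G) := by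
      refine le_inf hST ?_
      intro s hs
      rw [mem_normalizer_iff]
      intro e
      have hse := hcE s (hS.le hs)
      constructor
      · intro he
        rw [hse e he, mul_inv_cancel_right]
        exact he
      · intro he
        have h2 := hse _ he
        have e1 : s * e * s⁻¹ = e := by
          have h3 : e = s⁻¹ * (s * e * s⁻¹) * s := by group
          rw [mul_assoc, ← h2] at h3
          have h4 : s⁻¹ * (s * (s * e * s⁻¹)) = s * e * s⁻¹ := by group
          rw [h4] at h3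
          exact h3.symm
        rwa [e1] at he
    exact hS.max _ hR2 hSR hRC (mem_inf.mpr ⟨hx2, hxN⟩)
  refine ⟨T, ?_, ?_⟩
  · rw [← hTS]; exact hES
  · intro x hx g hg
    rw [← hTS] at hg
    exact hcl x hx g hg

end Cfsg.Agent.H298.UThree
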