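import Cfsg.Agent.H298.UThree.Swap
import Cfsg.Agent.H298.UThree.InSimple
import Cfsg.Agent.H298.UThree.Fusion
import Cfsg.Agent.S1347

/-!
# S3151: `K` is normal if `|E| ≥ 4` and `Z(K) = 1`
-/

set_option autoImplicit false
set_option linter.unusedSectionVars false

namespace Cfsg.Agent.H298.UThree

open Subgroup Cfsg.Agent.OddHalf.D4.Basic Cfsg.Agent.OddHalf.D4.U3.ParDefs Cfsg.Agent.StdU3.Semi
  Cfsg.Agent.StdU3.Field Cfsg.Agent.StdU3 Cfsg.Agent.SignalizersComponents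
open Cfsg.Agent.OddHalf.D4.CommConj (cj mem_cj cj_mul card_cj cj_eq_of_mem_normalizer mem_normalizer_of_cj_eq
  mem_cj_mul)
open Cfsg.Agent.StdL2.Setup (mem_centralizer_subgroupOf)

universe u v

variable {G : Type u} [Group G] [Finite G] {E K : Subgroup G} {F : Type v} [Field F] [Fintype F] {n : ℕ}

/-- elements of `C(K)` of odd order centralising an involution of `E` and normalising `K` -/
theorem Hyp.K_even (h : Hyp E K F n) : ∃ x ∈ K, orderOf x = 2 := by
  obtain ⟨P, hPK, hP2, x, hx, y, hy, hxy⟩ := h.na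
  have hne : P ≠ ⊥ := by
    rintro rfl
    rw [mem_bot] at hx hy
    apply hxy
    rw [hx, hy]
  obtain ⟨u, hu, hu2⟩ := exists_invol_of_two hP2 hne
  exact ⟨u, hPK hu, hu2⟩

/-- an odd-order normal subgroup centralising `t ∈ E#` lies in `Z(K)` -/
theorem Hyp.le_of_odd (h : Hyp E K F n) {N : Subgroup G} (hodd : Odd (Nat.card ↥N)) {t : G} (ht : t ∈ E)
    (ht1 : t ≠ 1) (hNt : ∀ x ∈ N, x * t = t * x) (hKN : K ≤ normalizer (N : Set G)) :
    N ≤ K ∧ N ≤ centralizer (K : Set G) := by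
  have hNK : N ≤ normalizer (K : Set G) := by
    intro x hx
    rw [mem_normalizer_iff]
    intro k
    constructor
    · exact fun hk => h.c.nor t ht ht1 x (hNt x hx) k hk
    · intro hk
      have h2 := h.c.nor t ht ht1 x⁻¹ (hNt _ (inv_mem hx)) _ hk
      have e1 : x⁻¹ * (x * k * x⁻¹) * x⁻¹⁻¹ = k := by group
      rwa [e1] at h2
  have hNC : N ≤ centralizer (K : Set G) := by
    rcases StandardTools.le_or_le_centralizer h.c.qs hNK hKN with h1 | h1
    · exfalso
      obtain ⟨x, hx, hx2⟩ := h.K_even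
      have h2 := even_of_mem hx2 (h1 hx)
      exact (Nat.not_even_iff_odd.mpr hodd) h2
    · exact h1
  refine ⟨?_, hNC⟩
  intro x hx
  obtain ⟨f, hf, w, hw, hwc, hxe⟩ := h.c.cK t ht ht1 x (hNt x hx) (hNC hx)
  -- `f` has odd order
  have h3 : x ^ Nat.card ↥N = 1 := by
    have : (⟨x, hx⟩ : ↥N) ^ Nat.card ↥N = 1 := pow_card_eq_one'
    exact congrArg Subtype.val this
  have hcomm : Commute f w := h.c.Kc f hf w hw
  have h4 : f ^ (Nat.card ↥N * Nat.card ↥(center ↥K)) = 1 := by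
    have h5 : f = x * w⁻¹ := by rw [hxe]; group
    have h6 : Commute x w := by
      rw [hxe]
      exact hcomm.mul_left (Commute.refl w)
    rw [h5, h6.inv_right.mul_pow, pow_mul, h3, one_pow, one_mul, inv_pow, mul_comm, pow_mul,
      h.c.w_pow hw hwc, one_pow, inv_one]
  have h5 : f = 1 := (Two.of_mem h.c.E_two hf).eq_one_of_odd (hodd.mul h.c.odd) h4
  rw [hxe, h5, one_mul]
  exact hw

/-- the parametrisation of a group of type `PSU₃` -/
theorem exists_par_of_psu {L : Subgroup G} {F' : Type} [Field F'] [Fintype F'] {q : ℕ}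
    (hq : Fintype.card F' = q ^ 2) (he : Even q) (h4 : 4 ≤ q) (hL : Nonempty (↥L ≃* Cfsg.PSU 3 F' q)) :
    ∃ (m : ℕ) (_ : CharP F' 2) (σ : F' →+* F') (_ : Fact (∀ x, σ (σ x) = x)), 2 ≤ m ∧ q = 2 ^ m ∧
      Nonempty (Par L σ m) := by
  have hc : CharP F' 2 := by
    apply Cfsg.Agent.StdSz.OutLie.charP_two_of_even
    rw [hq, pow_two]
    exact he.mul_left q
  obtain ⟨k, -, hk⟩ := FiniteField.card F' 2
  obtain ⟨m, hm⟩ : ∃ m, q = 2 ^ m := by
    have h1 : q ∣ 2 ^ (k : ℕ) := by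
      rw [← hk, hq, pow_two]
      exact Dvd.intro _ rfl
    obtain ⟨m, -, hm⟩ := (Nat.dvd_prime_pow Nat.prime_two).mp h1
    exact ⟨m, hm⟩
  have hm2 : 2 ≤ m := by
    by_contra hcon
    have : q ≤ 2 ^ 1 := by
      rw [hm]
      exact Nat.pow_le_pow_right (by norm_num) (by omega)
    omega
  have hqd : Qd F' m := ⟨hm2, by rw [hq, hm]⟩
  let σ : F' →+* F' := iterateFrobenius F' 2 m
  have hσ : ∀ x, σ x = bar m x := fun x => iterateFrobenius_def 2 m x
  have hfact : Fact (∀ x, σ (σ x) = x) := ⟨fun x => by rw [hσ, hσ, bar_bar hqd]⟩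
  have hS : Sg σ m := ⟨hqd, hσ⟩
  obtain ⟨R0⟩ := Cfsg.Agent.StdU3.URelModel.nonempty_urel (σ := σ) (n := m) (by omega) hσ
    (by rw [Nat.card_eq_fintype_card, hqd.hK])
  obtain ⟨e⟩ := hL
  rw [hm] at e
  exact ⟨m, hc, σ, hfact, hm2, hm, ⟨⟨hS, R0.map e.symm⟩⟩⟩

theorem mem_sup_zpowers {L : Subgroup G} (hLn : L.Normal) {e : G} (he : e * e = 1) {x : G}
    (hx : x ∈ L ⊔ zpowers e) : x ∈ L ∨ x * e ∈ L := by
  obtain ⟨l, hl, y, hy, rfl⟩ := Subgroup.mem_sup_of_normal_left.mp hx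
  obtain ⟨k, rfl⟩ := Subgroup.mem_zpowers_iff.mp hy
  have h4 : e ^ (2 : ℤ) = 1 := by
    rw [show (2 : ℤ) = ((2 : ℕ) : ℤ) by norm_num, zpow_natCast, pow_two, he]
  rcases Int.even_or_odd' k with ⟨c, h | h⟩
  · left
    rw [h, zpow_mul, h4, one_zpow, mul_one]
    exact hl
  · right
    rw [h, zpow_add, zpow_mul, h4, one_zpow, one_mul, zpow_one, mul_assoc, he, mul_one]
    exact hl

/-- the Sylow 2-subgroup of `L` normalised by `E` -/
theorem Hyp.exists_T (h : Hyp E K F n) {L : Subgroup G} (hLn : L.Normal) :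
    ∃ P S : Subgroup G, IsSyl P K ∧ IsSyl S ⊤ ∧ E ≤ S ∧ P ≤ S ∧ IsSyl (S ⊓ L) L := by
  obtain ⟨P, hP, -⟩ := exists_isSyl (M := K) (Q := ⊥) (IsPGroup.of_bot) bot_le
  have h1 : IsPGroup 2 ↥(E ⊔ P : Subgroup G) :=
    sup_two h.c.E_two hP.two (fun e he p hp => h.c.Kc e he p (hP.le hp))
  obtain ⟨S, hS, hES⟩ := exists_isSyl (M := ⊤) h1 le_top
  refine ⟨P, S, hP, hS, le_sup_left.trans hES, le_sup_right.trans hES, ?_⟩
  apply hS.inf le_top
  rw [normalizer_eq_top_iff.mpr hLn]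
  exact le_top

/-- elements of `S` normalise `S ∩ L` -/
theorem cj_inf_of_mem {S L : Subgroup G} (hLn : L.Normal) {x : G} (hx : x ∈ S) : cj x (S ⊓ L) = S ⊓ L := by
  apply cj_eq_of_mem_normalizer
  rw [mem_normalizer_iff]
  intro y
  constructor
  · intro hy
    obtain ⟨h1, h2⟩ := mem_inf.mp hy
    exact mem_inf.mpr ⟨mul_mem (mul_mem hx h1) (inv_mem hx), hLn.conj_mem y h2 x⟩
  · intro hy
    obtain ⟨h1, h2⟩ := mem_inf.mp hy
    have e : y = x⁻¹ * (x * y * x⁻¹) * x := by group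
    rw [e]
    refine mem_inf.mpr ⟨mul_mem (mul_mem (inv_mem hx) h1) hx, ?_⟩
    have := hLn.conj_mem _ h2 x⁻¹
    rwa [inv_inv] at this

/-- **the case of a simple layer, `|E| ≥ 4`** -/
theorem Hyp.false_of_layer (h : Hyp E K F n) (h4 : ∃ e ∈ E, ∃ f ∈ E, e ≠ 1 ∧ f ≠ 1 ∧ e ≠ f)
    (hZ : ∀ w ∈ K, w ∈ centralizer (K : Set G) → w = 1) {L : Subgroup G} (hLn : L.Normal)
    (hLs : IsSimpleGroup ↥L) (hna : ¬ IsMulCommutative ↥L) (hC : centralizer (L : Set G) = ⊥) (hKL : K ≤ L) :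
    False := by
  by_cases hA : ∃ e ∈ E, e ∈ L ∧ e ≠ 1
  · obtain ⟨e, he, heL, he1⟩ := hA
    have h' := h.sub hKL ⟨e, he, heL, he1⟩
    by_cases hB : ∃ f ∈ E, f ∈ L ∧ f ≠ 1 ∧ f ≠ e
    · obtain ⟨f, hf, hfL, hf1, hfe⟩ := hB
      refine h'.false_of_simple ?_ ⟨⟨e, heL⟩, mem_subgroupOf.mpr he, ⟨f, hfL⟩, mem_subgroupOf.mpr hf, ?_, ?_, ?_⟩
      · intro w hw hwc
        exact Subtype.ext (hZ _ (mem_subgroupOf.mp hw) ((mem_centralizer_subgroupOf hKL).mp hwc))
      · exact fun h1 => he1 (congrArg Subtype.val h1)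
      · exact fun h1 => hf1 (congrArg Subtype.val h1)
      · exact fun h1 => hfe (congrArg Subtype.val h1).symm
    · push Not at hB
      have h1 : zpowers e ≤ L := by rwa [zpowers_le]
      refine (h.local_analysis hLn hLs hna hC hKL he he1 ?_).1 heL
      intro f hf hfL
      rw [sup_eq_left.mpr h1] at hfL
      by_cases hf1 : f = 1
      · exact Or.inl hf1
      · exact Or.inr (hB f hf hfL hf1)
  · push Not at hA
    obtain ⟨e, he, f, hf, he1, hf1, hef⟩ := h4
    have hee := h.c.sq e he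
    have hff := h.c.sq f hf
    have hcomm := h.c.E_comm he hf
    have hef1 : e * f ≠ 1 := by
      intro h2
      apply hef
      rw [← hff] at h2
      exact mul_right_cancel h2
    obtain ⟨-, hk⟩ := h.local_analysis hLn hLs hna hC hKL he he1 (by
      intro g hg hgL
      rcases mem_sup_zpowers hLn hee hgL with h1 | h1
      · exact Or.inl (hA g hg h1)
      · right
        have h2 := hA _ (mul_mem hg he) h1
        rw [← hee] at h2
        exact mul_right_cancel h2)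
    rcases hk with ⟨F', _, _, q, hq, heven, hq4, hpsu⟩ | hk
    · obtain ⟨m, _, σ, _, -, -, ⟨p⟩⟩ := exists_par_of_psu hq heven hq4 hpsu
      have a : Act.Amb L := ⟨fun a i hi => hLn.conj_mem i hi a, fun x hx => by
        have h1 : x ∈ centralizer (L : Set G) := by
          rw [mem_centralizer_iff]
          exact fun y hy => (hx y hy).symm
        rwa [hC, mem_bot] at h1⟩
      rcases a.inner_three' p hee hff hcomm with h1 | h1 | h1
      · exact he1 (hA e he h1)
      · exact hf1 (hA f hf h1)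
      · exact hef1 (hA _ (mul_mem he hf) h1)
    · obtain ⟨P, S, hP, hS, hES, hPS, hT⟩ := h.exists_T hLn
      obtain ⟨A, B, hAB⟩ := exists_ab hk hT
      have key : ∀ g ∈ E, g ≠ 1 → cj g A = B := fun g hg hg1 =>
        h.swap hA hP inf_le_right (le_inf hPS (hP.le.trans hKL)) hAB hg hg1 (cj_inf_of_mem hLn (hES hg))
      have k1 := key e he he1
      have k2 := key f hf hf1
      have k3 := key (e * f) (mul_mem he hf) hef1
      rw [cj_mul, k2] at k3
      have k4 : cj e (cj e A) = A := by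
        rw [← cj_mul, hee]
        exact Cfsg.Agent.OddHalf.D4.RkEnd.Tools.cj_one A
      rw [k1, k3] at k4
      obtain ⟨x, hx, hxB⟩ := hAB.neA
      rw [← k4] at hx
      exact hxB hx

/-- **Theorem A**: `K` is normal in `G` if `|E| ≥ 4` and `Z(K) = 1`. -/
theorem Hyp.normal_of_four (h : Hyp E K F n) (h4 : ∃ e ∈ E, ∃ f ∈ E, e ≠ 1 ∧ f ≠ 1 ∧ e ≠ f)
    (hZ : ∀ w ∈ K, w ∈ centralizer (K : Set G) → w = 1) : K.Normal := by
  obtain ⟨t, ht, ht1⟩ := h.c.ne
  have hord : orderOf t = 2 := orderOf_eq_prime (by rw [pow_two]; exact h.c.sq t ht) ht1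
  have htC := h.c.E_le ht
  have hO : Cfsg.oddCore G = ⊥ := by
    have hn : (Cfsg.oddCore G).Normal := Cfsg.Agent.Lib.Cores.pPrimeCore_normal 2
    have hodd : Odd (Nat.card ↥(Cfsg.oddCore G)) := by
      have := Cfsg.Agent.Lib.Cores.pPrimeCore_coprime (G := G) 2
      rwa [Nat.coprime_two_right] at this
    have h1 := h.c.odd_comm h4 hodd (fun e _ x hx => hn.conj_mem x hx e)
    obtain ⟨h2, h3⟩ := h.le_of_odd hodd ht ht1 (fun x hx => (mem_centralizer_iff.mp (h1 hx) t ht).symm) (by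
      rw [normalizer_eq_top_iff.mpr hn]; exact le_top)
    rw [eq_bot_iff]
    intro x hx
    rw [mem_bot]
    exact hZ x (h2 hx) (h3 hx)
  by_contra hnn
  have h2 : Cfsg.pCore 2 G = ⊥ := by
    by_contra h0
    exact hnn (StandardTrichotomy.normal_of_pCore_ne_bot h.isStandard hord htC h0)
  have hC := StandardTrichotomy.centralizer_layer_eq_bot hO h2
  rcases Cfsg.Agent.S1347.result K h.isStandard hO t hord htC with h1 | h1 | h1
  · exact hnn h1
  · obtain ⟨X, -, -, -, -, -, -, h8⟩ := h1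
    have hE : ∀ e ∈ E, e ≠ 1 → e = t := by
      intro e he he1
      have h9 : e ∈ zpowers t := by rw [← h8]; exact h.c.E_le he
      rcases mem_sup_zpowers (L := ⊥) inferInstance (h.c.sq t ht) (mem_sup_right h9) with h10 | h10
      · exact absurd (mem_bot.mp h10) he1
      · rw [mem_bot, ← h.c.sq t ht] at h10
        exact mul_right_cancel h10
    obtain ⟨e, he, f, hf, he1, hf1, hef⟩ := h4
    exact hef ((hE e he he1).trans (hE f hf hf1).symm)
  · obtain ⟨hKL, hLs, hna⟩ := h1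
    exact h.false_of_layer h4 hZ (Components.layer_normal G) hLs hna hC hKL

end Cfsg.Agent.H298.UThree
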