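import Cfsg.Agent.H298.UThree.Quot

/-!
# S3151: `E` is strongly closed if `|E| ≥ 4`
-/

set_option autoImplicit false
set_option linter.unusedSectionVars false

namespace Cfsg.Agent.H298.UThree

open Subgroup Cfsg.Agent.OddHalf.D4.Basic
open Cfsg.Agent.OddHalf.D4.CommConj (cj mem_cj cj_mul card_cj cj_eq_of_mem_normalizer mem_normalizer_of_cj_eq
  mem_cj_mul)
open Cfsg.Agent.StdL2.Setup (mem_centralizer_subgroupOf)

universe u v

variable {G : Type u} [Group G]

/-- `Z(K)` -/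
def ZK (K : Subgroup G) : Subgroup G := K ⊓ centralizer (K : Set G)

theorem mem_ZK {K : Subgroup G} {x : G} : x ∈ ZK K ↔ x ∈ K ∧ x ∈ centralizer (K : Set G) := mem_inf

theorem mem_normalizer_of {X : Subgroup G} {g : G} (h : ∀ x ∈ X, g * x * g⁻¹ ∈ X) (h' : ∀ x ∈ X, g⁻¹ * x * g ∈ X) :
    g ∈ normalizer (X : Set G) := by
  rw [mem_normalizer_iff]
  intro x
  constructor
  · exact h x
  · intro hx
    have h1 := h' _ hx
    have e : g⁻¹ * (g * x * g⁻¹) * g = x := by group
    rwa [e] at h1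

variable [Finite G] {E K : Subgroup G} {F : Type v} [Field F] [Fintype F] {n : ℕ}

theorem Hyp.mem_normalizer (h : Hyp E K F n) {t x : G} (ht : t ∈ E) (ht1 : t ≠ 1) (hx : x * t = t * x) :
    x ∈ normalizer (K : Set G) := by
  apply mem_normalizer_of
  · exact h.c.nor t ht ht1 x hx
  · intro k hk
    have h1 := h.c.nor t ht ht1 x⁻¹ (by
      calc x⁻¹ * t = x⁻¹ * (t * x) * x⁻¹ := by group
        _ = x⁻¹ * (x * t) * x⁻¹ := by rw [hx]
        _ = t * x⁻¹ := by group) k hk
    rwa [inv_inv] at h1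

theorem Hyp.odd_ZK (h : Hyp E K F n) : Odd (Nat.card ↥(ZK K)) := by
  have h1 : Nat.card ↥(ZK K) ≤ Nat.card ↥(center ↥K) := by
    apply Nat.card_le_card_of_injective (fun x : ↥(ZK K) => (⟨⟨x, (mem_ZK.mp x.2).1⟩, by
      rw [mem_center_iff]
      intro y
      exact Subtype.ext (mem_centralizer_iff.mp (mem_ZK.mp x.2).2 y y.2)⟩ : ↥(center ↥K)))
    intro x y hxy
    have h2 := congrArg (fun z : ↥(center ↥K) => ((z : ↥K) : G)) hxy
    exact Subtype.ext h2
  have h2 : ZK K = (center ↥K).map K.subtype := by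
    ext x
    constructor
    · intro hx
      obtain ⟨h3, h4⟩ := mem_ZK.mp hx
      refine ⟨⟨x, h3⟩, ?_, rfl⟩
      rw [SetLike.mem_coe, mem_center_iff]
      intro y
      exact Subtype.ext (mem_centralizer_iff.mp h4 y y.2)
    · rintro ⟨y, hy, rfl⟩
      refine mem_ZK.mpr ⟨y.2, ?_⟩
      rw [mem_centralizer_iff]
      intro z hz
      exact congrArg Subtype.val (mem_center_iff.mp hy ⟨z, hz⟩)
  rw [h2, card_map_of_injective K.subtype_injective]
  exact h.c.odd

/-- `C(Z(K))` normalises `K` -/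
theorem Hyp.conj_mem_of_comm (h : Hyp E K F n) (h4 : ∃ e ∈ E, ∃ f ∈ E, e ≠ 1 ∧ f ≠ 1 ∧ e ≠ f) {c : G}
    (hc : c ∈ centralizer (ZK K : Set G)) {k : G} (hk : k ∈ K) : c * k * c⁻¹ ∈ K := by
  have hKC : K ≤ centralizer (ZK K : Set G) := by
    intro x hx
    rw [mem_centralizer_iff]
    intro w hw
    exact (mem_centralizer_iff.mp (mem_ZK.mp hw).2 x hx).symm
  have hZC : ZK K ≤ centralizer (ZK K : Set G) := fun x hx => hKC (mem_ZK.mp hx).1
  have hEC : E ≤ centralizer (ZK K : Set G) := by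
    intro x hx
    rw [mem_centralizer_iff]
    intro w hw
    exact (h.c.Kc x hx w (mem_ZK.mp hw).1).symm
  obtain ⟨t, ht, ht1⟩ := h.c.ne
  have h1 := h.sub hKC ⟨t, ht, hEC ht, ht1⟩
  have hN : ((ZK K).subgroupOf (centralizer (ZK K : Set G))).Normal := by
    refine ⟨fun x hx g => ?_⟩
    have h2 := mem_centralizer_iff.mp g.2 x (mem_subgroupOf.mp hx)
    have h3 : g * x * g⁻¹ = x := Subtype.ext (by
      show (g : G) * x * (g : G)⁻¹ = x
      rw [← h2]; group)
    rw [h3]; exact hx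
  have hodd : Odd (Nat.card ↥((ZK K).subgroupOf (centralizer (ZK K : Set G)))) := by
    rw [Nat.card_congr (subgroupOfEquivOfLe hZC).toEquiv]
    exact h.odd_ZK
  have h2 := h1.quot hodd
  have hker : ∀ x, QuotientGroup.mk' ((ZK K).subgroupOf (centralizer (ZK K : Set G))) x = 1 ↔ (x : G) ∈ ZK K :=
    fun x => by rw [← MonoidHom.mem_ker, QuotientGroup.ker_mk', mem_subgroupOf]
  have h3 := h2.normal_of_four (by
    obtain ⟨e, he, f, hf, he1, hf1, hef⟩ := h4
    refine ⟨_, ⟨⟨e, hEC he⟩, mem_subgroupOf.mpr he, rfl⟩, _, ⟨⟨f, hEC hf⟩, mem_subgroupOf.mpr hf, rfl⟩, ?_, ?_, ?_⟩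
    · intro h5
      rw [hker] at h5
      exact he1 (h.c.inf_eq he (mem_ZK.mp h5).1)
    · intro h5
      rw [hker] at h5
      exact hf1 (h.c.inf_eq hf (mem_ZK.mp h5).1)
    · intro h5
      have h6 : QuotientGroup.mk' ((ZK K).subgroupOf (centralizer (ZK K : Set G)))
          ((⟨e, hEC he⟩ : ↥(centralizer (ZK K : Set G)))⁻¹ * ⟨f, hEC hf⟩) = 1 := by
        rw [map_mul, map_inv, h5]; group
      rw [hker] at h6
      have h7 : e⁻¹ * f ∈ ZK K := h6
      have h8 := h.c.inf_eq (mul_mem (inv_mem he) hf) (mem_ZK.mp h7).1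
      exact hef (inv_mul_eq_one.mp h8)) (by
    rintro _ ⟨w, hw, rfl⟩ hwc
    have hw' : (w : G) ∈ K := mem_subgroupOf.mp hw
    rw [hker]
    refine mem_ZK.mpr ⟨hw', ?_⟩
    apply comm_of_central h.c.qs.1.commutator_eq_top
    intro k hk
    have h5 := mem_centralizer_iff.mp hwc _ ⟨⟨k, hKC hk⟩, mem_subgroupOf.mpr hk, rfl⟩
    have h6 : QuotientGroup.mk' ((ZK K).subgroupOf (centralizer (ZK K : Set G)))
        (w * ⟨k, hKC hk⟩ * w⁻¹ * (⟨k, hKC hk⟩)⁻¹) = 1 := by
      rw [map_mul, map_mul, map_mul, map_inv, map_inv, ← h5]; group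
    rw [hker] at h6
    exact mem_ZK.mp h6)
  have h5 := h3.conj_mem _ ⟨⟨k, hKC hk⟩, mem_subgroupOf.mpr hk, rfl⟩
    (QuotientGroup.mk' ((ZK K).subgroupOf (centralizer (ZK K : Set G))) ⟨c, hc⟩)
  rw [← map_mul, ← map_inv, ← map_mul] at h5
  obtain ⟨k', hk', h6⟩ := h5
  have h7 : QuotientGroup.mk' ((ZK K).subgroupOf (centralizer (ZK K : Set G)))
      ((⟨c, hc⟩ * ⟨k, hKC hk⟩ * ⟨c, hc⟩⁻¹) * k'⁻¹) = 1 := by
    rw [map_mul, ← h6, map_inv, mul_inv_cancel]
  rw [hker] at h7
  have h8 : c * k * c⁻¹ * (k' : G)⁻¹ ∈ ZK K := h7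
  have h9 := mul_mem (mem_ZK.mp h8).1 (mem_subgroupOf.mp hk')
  rwa [inv_mul_cancel_right] at h9

/-- `N(Z(K)) ≤ N(K)` -/
theorem Hyp.normalizer_ZK_le (h : Hyp E K F n) (h4 : ∃ e ∈ E, ∃ f ∈ E, e ≠ 1 ∧ f ≠ 1 ∧ e ≠ f) :
    normalizer (ZK K : Set G) ≤ normalizer (K : Set G) := by
  intro g hg
  by_contra hcon
  have hne : cj g K ≠ K := fun h1 => hcon (mem_normalizer_of_cj_eq h1)
  have hKC : K ≤ centralizer (ZK K : Set G) := by
    intro x hx
    rw [mem_centralizer_iff]
    intro w hw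
    exact (mem_centralizer_iff.mp (mem_ZK.mp hw).2 x hx).symm
  have hnor : ∀ c ∈ centralizer (ZK K : Set G), c ∈ normalizer (K : Set G) := by
    intro c hc
    apply mem_normalizer_of
    · exact fun x hx => h.conj_mem_of_comm h4 hc hx
    · intro x hx
      have := h.conj_mem_of_comm h4 (inv_mem hc) hx
      rwa [inv_inv] at this
  have hg1 : ∀ c ∈ centralizer (ZK K : Set G), g * c * g⁻¹ ∈ centralizer (ZK K : Set G) := by
    intro c hc
    rw [mem_centralizer_iff]
    intro w hw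
    have h1 : g⁻¹ * w * g ∈ ZK K := by
      have := (mem_normalizer_iff.mp (inv_mem hg) w).mp hw
      rwa [inv_inv] at this
    have h2 := mem_centralizer_iff.mp hc _ h1
    calc w * (g * c * g⁻¹) = g * (g⁻¹ * w * g * c) * g⁻¹ := by group
      _ = g * (c * (g⁻¹ * w * g)) * g⁻¹ := by rw [h2]
      _ = g * c * g⁻¹ * w := by group
  have hg2 : ∀ c ∈ centralizer (ZK K : Set G), g⁻¹ * c * g ∈ centralizer (ZK K : Set G) := by
    intro c hc
    rw [mem_centralizer_iff]
    intro w hw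
    have h1 : g * w * g⁻¹ ∈ ZK K := (mem_normalizer_iff.mp hg w).mp hw
    have h2 := mem_centralizer_iff.mp hc _ h1
    calc w * (g⁻¹ * c * g) = g⁻¹ * (g * w * g⁻¹ * c) * g := by group
      _ = g⁻¹ * (c * (g * w * g⁻¹)) * g := by rw [h2]
      _ = g⁻¹ * c * g * w := by group
  have k1 : cj g K ≤ normalizer (K : Set G) := by
    rintro _ ⟨k, hk, rfl⟩
    exact hnor _ (hg1 k (hKC hk))
  have k2 : K ≤ normalizer (cj g K : Set G) := by
    intro k hk
    have h3 := hnor _ (hg2 k (hKC hk))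
    apply mem_normalizer_of_cj_eq
    rw [← cj_mul, show k * g = g * (g⁻¹ * k * g) by group, cj_mul, cj_eq_of_mem_normalizer h3]
  rcases Cfsg.Agent.SignalizersComponents.StandardTools.le_or_le_centralizer h.c.qs k1 k2 with h5 | h5
  · exact hne (eq_of_le_of_card_ge h5 (by rw [card_cj])).symm
  · apply h.isStandard.2.2.1 g hne
    rw [commutator_comm, commutator_eq_bot_iff_le_centralizer]
    exact h5

/-- `N(E P) ≤ N(Z(K))` -/
theorem Hyp.normalizer_sup_le (h : Hyp E K F n) {P : Subgroup G} (hP : IsSyl P K) :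
    normalizer ((E ⊔ P : Subgroup G) : Set G) ≤ normalizer (ZK K : Set G) := by
  obtain ⟨t, ht, ht1⟩ := h.c.ne
  have key : ∀ x : G, x ∈ ZK K ↔
      (x ∈ centralizer ((E ⊔ P : Subgroup G) : Set G) ∧ x ^ Nat.card ↥(center ↥K) = 1) := by
    intro x
    constructor
    · intro hx
      obtain ⟨h1, h2⟩ := mem_ZK.mp hx
      refine ⟨?_, h.c.w_pow h1 h2⟩
      have h3 : (E ⊔ P : Subgroup G) ≤ centralizer ({x} : Set G) := by
        rw [sup_le_iff]
        constructor
        · intro e he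
          rw [mem_centralizer_iff]
          rintro _ rfl
          exact (h.c.Kc e he _ h1).symm
        · intro p hp
          rw [mem_centralizer_iff]
          rintro _ rfl
          exact (mem_centralizer_iff.mp h2 p (hP.le hp)).symm
      rw [mem_centralizer_iff]
      intro y hy
      exact (mem_centralizer_iff.mp (h3 hy) x rfl).symm
    · rintro ⟨h1, h2⟩
      have h3 : ∀ y ∈ (E ⊔ P : Subgroup G), x * y = y * x := fun y hy => (mem_centralizer_iff.mp h1 y hy).symm
      have hxt : x * t = t * x := h3 t (mem_sup_left ht)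
      have hxN := h.mem_normalizer ht ht1 hxt
      obtain ⟨s, hs, hsC⟩ := h.exists_of_comm hP hxN (fun s hs => h3 s (mem_sup_right hs))
      have hsK := hP.le hs
      have hst : s * t = t * s := (h.c.Kc t ht s hsK).symm
      have h5 : s⁻¹ * x * t = t * (s⁻¹ * x) := by
        calc s⁻¹ * x * t = s⁻¹ * (x * t) := by group
          _ = s⁻¹ * t * x := by rw [hxt]; group
          _ = s⁻¹ * (t * s) * s⁻¹ * x := by group
          _ = t * (s⁻¹ * x) := by rw [← hst]; group
      obtain ⟨f, hf, w, hw, hwc, hfw⟩ := h.c.cK t ht ht1 _ h5 hsC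
      have hx : x = s * f * w := by
        calc x = s * (s⁻¹ * x) := by group
          _ = s * f * w := by rw [hfw]; group
      have hsf : s * f = f * s := (h.c.Kc f hf s hsK).symm
      have hsw : s * w = w * s := mem_centralizer_iff.mp hwc s hsK
      have hfw' : f * w = w * f := h.c.Kc f hf w hw
      have hcomm : Commute (s * f) w := by
        show s * f * w = w * (s * f)
        calc s * f * w = s * (f * w) := by group
          _ = s * w * f := by rw [hfw']; group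
          _ = w * (s * f) := by rw [hsw]; group
      rw [hx, hcomm.mul_pow, h.c.w_pow hw hwc, mul_one] at h2
      have h6 : s * f = 1 :=
        ((Two.of_mem hP.two hs).mul (Two.of_mem h.c.E_two hf) hsf).eq_one_of_odd h.c.odd h2
      rw [hx, h6, one_mul]
      exact mem_ZK.mpr ⟨hw, hwc⟩
  have key2 : ∀ g ∈ normalizer ((E ⊔ P : Subgroup G) : Set G), ∀ x ∈ ZK K, g * x * g⁻¹ ∈ ZK K := by
    intro g hg x hx
    rw [key] at hx ⊢
    obtain ⟨h1, h2⟩ := hx
    refine ⟨?_, by rw [conj_pow, h2]; group⟩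
    rw [mem_centralizer_iff]
    intro y hy
    have h3 : g⁻¹ * y * g ∈ (E ⊔ P : Subgroup G) := by
      have := (mem_normalizer_iff.mp (inv_mem hg) y).mp hy
      rwa [inv_inv] at this
    have h4 := mem_centralizer_iff.mp h1 _ h3
    calc y * (g * x * g⁻¹) = g * (g⁻¹ * y * g * x) * g⁻¹ := by group
      _ = g * (x * (g⁻¹ * y * g)) * g⁻¹ := by rw [h4]
      _ = g * x * g⁻¹ * y := by group
  intro g hg
  apply mem_normalizer_of
  · exact key2 g hg
  · intro x hx
    have := key2 g⁻¹ (inv_mem hg) x hx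
    rwa [inv_inv] at this

/-- **Theorem B**: `E` is strongly closed in a Sylow 2-subgroup of `G` if `|E| ≥ 4`. -/
theorem Hyp.strongly_closed_of_four (h : Hyp E K F n) (h4 : ∃ e ∈ E, ∃ f ∈ E, e ≠ 1 ∧ f ≠ 1 ∧ e ≠ f) :
    ∃ S : Sylow 2 G, Cfsg.IsStronglyClosed E (S : Subgroup G) :=
  strongly_closed h h4 (fun _ hP => (h.normalizer_sup_le hP).trans (h.normalizer_ZK_le h4))

end Cfsg.Agent.H298.UThree
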