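import Cfsg.Agent.H298.UThree.Hyp
import Cfsg.Agent.S1170
import Cfsg.Agent.StdU3.Main
import Cfsg.Agent.StdU3.GZeroMk
import Cfsg.Agent.StdU3.GOneMain
import Cfsg.Agent.SylowL.SylowPSL

/-!
# S3151: the local analysis of S1771 for an involution of `E`

`L` simple, normal, `C(L) = 1`, `K ≤ L`, `e ∈ E`, `E ∩ L⟨e⟩ = ⟨e⟩`: then `e ∉ L` and `L` is `PSU₃`, `PSL₃` or
`PSp₄` in characteristic 2.
-/

set_option autoImplicit false
set_option linter.unusedSectionVars false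

namespace Cfsg.Agent.H298.UThree

open Subgroup Cfsg.Agent.OddHalf.D4.Basic Cfsg.Agent.StdU3 Cfsg.Agent.StdL2.Setup
open Cfsg.Agent.SignalizersComponents

universe u v

section Kind

/-- the possible simple groups -/
def Kind (L : Type*) [Group L] : Prop :=
  (∃ (F : Type) (_ : Field F) (_ : Fintype F) (q : ℕ), Fintype.card F = q ^ 2 ∧ Even q ∧ 4 ≤ q ∧
      Nonempty (L ≃* Cfsg.PSU 3 F q)) ∨
    (∃ (F : Type) (_ : Field F) (_ : Fintype F), CharP F 2 ∧
      Nonempty (L ≃* Matrix.ProjectiveSpecialLinearGroup (Fin 3) F)) ∨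
    (∃ (F : Type) (_ : Field F) (_ : Fintype F), CharP F 2 ∧ 4 ≤ Fintype.card F ∧ Nonempty (L ≃* Cfsg.PSp 2 F))

theorem Kind.congr {L M : Type*} [Group L] [Group M] (f : M ≃* L) (h : Kind L) : Kind M := by
  rcases h with ⟨F, i1, i2, q, h1, h2, h3, ⟨e⟩⟩ | ⟨F, i1, i2, h1, ⟨e⟩⟩ | ⟨F, i1, i2, h1, h2, ⟨e⟩⟩
  · exact Or.inl ⟨F, i1, i2, q, h1, h2, h3, ⟨f.trans e⟩⟩
  · exact Or.inr (Or.inl ⟨F, i1, i2, h1, ⟨f.trans e⟩⟩)
  · exact Or.inr (Or.inr ⟨F, i1, i2, h1, h2, ⟨f.trans e⟩⟩)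

theorem kind_of_closed {L : Type u} [Group L] [Finite L] [IsSimpleGroup L] (S : Sylow 2 L) (U : Subgroup L)
    (hU : Cfsg.IsStronglyClosed U (S : Subgroup L)) (hnc : ¬ IsMulCommutative U)
    (hcl : ⁅(⊤ : Subgroup U), ⊤⁆ ≤ Subgroup.center U) (h16 : 16 ≤ Nat.card U)
    (h3 : 3 ∣ Nat.card L) : Kind L := by
  have : Fact (Nat.Prime 2) := ⟨Nat.prime_two⟩
  have hp : IsPGroup 2 U := S.isPGroup'.to_le hU.1
  have h16' : 16 ∣ Nat.card L := by
    obtain ⟨k, hk⟩ := hp.exists_card_eq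
    have h1 : 4 ≤ k := by
      by_contra hcon
      have h2 : Nat.card U ≤ 2 ^ 3 := by
        rw [hk]; exact Nat.pow_le_pow_right (by norm_num) (by omega)
      omega
    refine Dvd.dvd.trans ?_ (Subgroup.card_subgroup_dvd_card U)
    rw [hk, show (16 : ℕ) = 2 ^ 4 by norm_num]
    exact pow_dvd_pow 2 h1
  rcases Cfsg.Agent.S1170.result S U hU hnc hcl with h | h | h | h | h | h
  · exfalso
    obtain ⟨K, _, _, hK, ⟨e⟩⟩ := h
    rw [Nat.card_congr e.toEquiv] at h16'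
    exact EndLie.not_sixteen_dvd_psl hK h16'
  · exact Or.inl h
  · exact absurd h3 (EndLie.not_three_dvd_suzuki h)
  · exact Or.inr (Or.inl h)
  · exact Or.inr (Or.inr h)
  · exfalso
    obtain ⟨e⟩ := h
    rw [Nat.card_congr e.toEquiv] at h16'
    have := Cfsg.Agent.StdSz.OutLie.card_A7
    omega

open Cfsg.Agent.SylowL.Lev Cfsg.Agent.SylowL.UT in
theorem ut_two_comm {F : Type*} [Field F] (x y : UT 2 F) : x * y = y * x := by
  have h : ∀ (g : UT 2 F) (i j : Fin 2), ¬ (i = 0 ∧ j = 1) → N g i j = 0 := by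
    intro g i j hij
    have h1 := mem_lev'.1 (N_mem g) i j
    fin_cases i <;> fin_cases j <;> simp at hij h1 ⊢ <;> exact h1
  have h2 : ∀ x y : UT 2 F, N x * N y = 0 := by
    intro x y
    ext i j
    rw [Matrix.mul_apply, Fin.sum_univ_two]
    fin_cases i <;> fin_cases j <;> simp [h]
  rw [commute_iff, h2, h2]

/-- `PSL₂(q)`, `q` even, has abelian Sylow 2-subgroups -/
theorem sylow_comm {F : Type*} [Field F] [Fintype F] [CharP F 2]
    (P : Sylow 2 (Matrix.ProjectiveSpecialLinearGroup (Fin 2) F)) {x y : Matrix.ProjectiveSpecialLinearGroup (Fin 2) F}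
    (hx : x ∈ (P : Subgroup (Matrix.ProjectiveSpecialLinearGroup (Fin 2) F)))
    (hy : y ∈ (P : Subgroup (Matrix.ProjectiveSpecialLinearGroup (Fin 2) F))) : x * y = y * x := by
  have : Fact (Nat.Prime 2) := ⟨Nat.prime_two⟩
  obtain ⟨e⟩ := Cfsg.Agent.SylowL.SylowPSL.sylow_equiv 2 P
  have h1 := ut_two_comm (e ⟨x, hx⟩) (e ⟨y, hy⟩)
  rw [← map_mul, ← map_mul] at h1
  exact congrArg Subtype.val (e.injective h1)

theorem kind_of_ab {L : Type u} [Group L] [Finite L] [IsSimpleGroup L] (S : Sylow 2 L)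
    (hS : ¬ IsMulCommutative (S : Subgroup L)) (W : Subgroup L) (hne : W ≠ ⊥)
    (hcomm : IsMulCommutative W) (hcl : Cfsg.IsStronglyClosed W (S : Subgroup L))
    (h3 : 3 ∣ Nat.card L) : Kind L := by
  rcases Cfsg.Agent.S1169.result S W hne hcomm hcl with h | ⟨H, hH⟩
  · exact absurd h hS
  · have hna : ∃ a b : L, a * b ≠ b * a := by
      by_contra hcon
      push Not at hcon
      exact hS ⟨⟨fun a b => Subtype.ext (hcon a b)⟩⟩
    rcases Cfsg.Agent.S0222.result hna H hH with ⟨F, _, _, hchar, h4, he⟩ | h |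
      ⟨F, _, _, q, hq, heven, h4, he⟩
    · exfalso
      obtain ⟨e⟩ := he
      have : Fact (Nat.Prime 2) := ⟨Nat.prime_two⟩
      apply hS
      refine ⟨⟨fun x y => ?_⟩⟩
      have h1 : IsPGroup 2 ↥((S : Subgroup L).map e.toMonoidHom) := S.isPGroup'.map _
      obtain ⟨P, hP⟩ := h1.exists_le_sylow
      have h2 := sylow_comm P (hP ⟨x, x.2, rfl⟩) (hP ⟨y, y.2, rfl⟩)
      have h3 : e (x * y) = e (y * x) := by rw [map_mul, map_mul]; exact h2
      exact Subtype.ext (e.injective h3)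
    · exact absurd h3 (EndLie.not_three_dvd_suzuki h)
    · exact Or.inl ⟨F, inferInstance, inferInstance, q, hq, heven, h4, he⟩

end Kind

variable {G : Type u} [Group G] {E K : Subgroup G} {F : Type v} [Field F] [Fintype F] {n : ℕ}

/-- restriction to a subgroup -/
theorem Hyp.sub [Finite G] (h : Hyp E K F n) {H : Subgroup G} (hKH : K ≤ H) (hne : ∃ e ∈ E, e ∈ H ∧ e ≠ 1) :
    Hyp (E.subgroupOf H) (K.subgroupOf H) F n := by
  have f : ↥(K.subgroupOf H) ≃* ↥K := subgroupOfEquivOfLe hKH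
  refine ⟨⟨?_, ?_, ?_, ?_, ?_, ?_, ?_, ?_⟩, h.hn, h.hF, ?_⟩
  · obtain ⟨e, he, heH, he1⟩ := hne
    exact ⟨⟨e, heH⟩, mem_subgroupOf.mpr he, fun h1 => he1 (congrArg Subtype.val h1)⟩
  · intro e he
    exact Subtype.ext (h.c.sq _ (mem_subgroupOf.mp he))
  · intro e he he1 f hf x hx
    exact Subtype.ext (h.c.cen _ (mem_subgroupOf.mp he) (fun h1 => he1 (Subtype.ext h1)) _ (mem_subgroupOf.mp hf) _
      (congrArg Subtype.val hx))
  · intro e he k hk
    exact Subtype.ext (h.c.Kc _ (mem_subgroupOf.mp he) _ (mem_subgroupOf.mp hk))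
  · intro e he he1 x hx k hk
    rw [mem_subgroupOf]
    exact h.c.nor _ (mem_subgroupOf.mp he) (fun h1 => he1 (Subtype.ext h1)) _ (congrArg Subtype.val hx) _
      (mem_subgroupOf.mp hk)
  · intro e he he1 x hx hxK
    rw [mem_centralizer_subgroupOf hKH] at hxK
    obtain ⟨f, hf, w, hw, hwc, hxe⟩ := h.c.cK _ (mem_subgroupOf.mp he) (fun h1 => he1 (Subtype.ext h1)) _
      (congrArg Subtype.val hx) hxK
    have hwH := hKH hw
    have hfH : f ∈ H := by
      have h1 : f = x * w⁻¹ := by rw [hxe]; group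
      rw [h1]; exact mul_mem x.2 (inv_mem hwH)
    refine ⟨⟨f, hfH⟩, mem_subgroupOf.mpr hf, ⟨w, hwH⟩, mem_subgroupOf.mpr hw, ?_, Subtype.ext hxe⟩
    rw [mem_centralizer_subgroupOf hKH]
    exact hwc
  · exact Components.isQuasisimple_of_mulEquiv f.symm h.c.qs
  · rw [Nat.card_congr (centerCongr f).toEquiv]
    exact h.c.odd
  · obtain ⟨e⟩ := h.iso
    exact ⟨(quotCenter f).trans e⟩

/-- the configuration on `L⟨e⟩` -/
theorem Hyp.conf [Finite G] (h : Hyp E K F n) {L : Subgroup G} (hLn : L.Normal) (hLs : IsSimpleGroup ↥L)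
    (hna : ¬ IsMulCommutative ↥L) (hC : centralizer (L : Set G) = ⊥) (hKL : K ≤ L) {e : G} (he : e ∈ E)
    (he1 : e ≠ 1) (hE : ∀ f ∈ E, f ∈ L ⊔ zpowers e → f = 1 ∨ f = e) :
    Conf (L.subgroupOf (L ⊔ zpowers e)) (K.subgroupOf (L ⊔ zpowers e))
      (⟨e, (le_sup_right : zpowers e ≤ _) (mem_zpowers e)⟩ : ↥(L ⊔ zpowers e)) := by
  have hLH : L ≤ L ⊔ zpowers e := le_sup_left
  have hKH : K ≤ L ⊔ zpowers e := hKL.trans hLH
  have heH : e ∈ L ⊔ zpowers e := (le_sup_right : zpowers e ≤ _) (mem_zpowers e)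
  have f := subgroupOfEquivOfLe hLH
  have hord : orderOf e = 2 := orderOf_eq_prime (by rw [pow_two]; exact h.c.sq e he) he1
  have heC : e ∈ centralizer (K : Set G) := h.c.E_le he
  have h' : Hyp (E.subgroupOf (L ⊔ zpowers e)) (K.subgroupOf (L ⊔ zpowers e)) F n :=
    h.sub hKH ⟨e, he, heH, he1⟩
  refine ⟨inferInstance, f.isSimpleGroup, ?_, ?_, ?_, ?_, h'.isStandard, ?_, ?_, ?_⟩
  · intro h
    apply hna
    refine ⟨⟨fun x y => ?_⟩⟩
    have := h.is_comm.comm (f.symm x) (f.symm y)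
    have h2 := congrArg f this
    simpa using h2
  · rw [← le_bot_iff]
    intro x hx
    have h1 := (mem_centralizer_subgroupOf hLH).mp hx
    rw [hC, mem_bot] at h1
    rw [mem_bot]
    exact Subtype.ext h1
  · rw [eq_top_iff]
    intro x _
    have h1 : (L ⊔ zpowers e) =
        (L.subgroupOf (L ⊔ zpowers e) ⊔ zpowers (⟨e, heH⟩ : ↥(L ⊔ zpowers e))).map (L ⊔ zpowers e).subtype := by
      rw [Subgroup.map_sup, subgroupOf_map_subtype, MonoidHom.map_zpowers]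
      have h2 : L ⊓ (L ⊔ zpowers e) = L := inf_eq_left.mpr hLH
      rw [h2]
      rfl
    have h3 : (x : G) ∈ (L.subgroupOf (L ⊔ zpowers e) ⊔
          zpowers (⟨e, heH⟩ : ↥(L ⊔ zpowers e))).map (L ⊔ zpowers e).subtype := h1 ▸ x.2
    obtain ⟨y, hy, hyx⟩ := h3
    have h4 : y = x := Subtype.ext hyx
    rw [← h4]
    exact hy
  · intro x hx
    exact mem_subgroupOf.mpr (hKL (mem_subgroupOf.mp hx))
  · rw [← Subgroup.orderOf_coe]; exact hord
  · exact (mem_centralizer_subgroupOf hKH).mpr heC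
  · intro R
    have h2 := h'.c.isSyl
    obtain ⟨P, hP⟩ := h2.toSylow
    have hcard : Nat.card ↥(R : Subgroup ↥(centralizer ((K.subgroupOf (L ⊔ zpowers e) :
        Subgroup ↥(L ⊔ zpowers e)) : Set ↥(L ⊔ zpowers e)))) = 2 := by
      rw [Nat.card_congr (Sylow.equiv R P).toEquiv, hP, Nat.card_congr (subgroupOfEquivOfLe h2.2).toEquiv]
      have h3 : E.subgroupOf (L ⊔ zpowers e) = zpowers (⟨e, heH⟩ : ↥(L ⊔ zpowers e)) := by
        apply le_antisymm
        · intro y hy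
          rcases hE _ (mem_subgroupOf.mp hy) y.2 with h4 | h4
          · have : y = 1 := Subtype.ext h4
            rw [this]; exact one_mem _
          · have : y = ⟨e, heH⟩ := Subtype.ext h4
            rw [this]; exact mem_zpowers _
        · rw [zpowers_le, mem_subgroupOf]
          exact he
      rw [h3, Nat.card_zpowers, ← Subgroup.orderOf_coe]
      exact hord
    have : Fact (Nat.Prime 2) := ⟨Nat.prime_two⟩
    exact isCyclic_of_prime_card hcard

/-- **the local analysis** -/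
theorem Hyp.local_analysis [Finite G] (h : Hyp E K F n) {L : Subgroup G} (hLn : L.Normal) (hLs : IsSimpleGroup ↥L)
    (hna : ¬ IsMulCommutative ↥L) (hC : centralizer (L : Set G) = ⊥) (hKL : K ≤ L) {e : G} (he : e ∈ E)
    (he1 : e ≠ 1) (hE : ∀ f ∈ E, f ∈ L ⊔ zpowers e → f = 1 ∨ f = e) : e ∉ L ∧ Kind ↥L := by
  have C := h.conf hLn hLs hna hC hKL he he1 hE
  have hLH : L ≤ L ⊔ zpowers e := le_sup_left
  have hKH : K ≤ L ⊔ zpowers e := hKL.trans hLH
  have heH : e ∈ L ⊔ zpowers e := (le_sup_right : zpowers e ≤ _) (mem_zpowers e)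
  have h' : Hyp (E.subgroupOf (L ⊔ zpowers e)) (K.subgroupOf (L ⊔ zpowers e)) F n :=
    h.sub hKH ⟨e, he, heH, he1⟩
  have hcardA : Nat.card (Cfsg.PSU 3 F (2 ^ n)) ∣ Nat.card ↥(K.subgroupOf (L ⊔ zpowers e)) := by
    obtain ⟨f⟩ := h'.iso
    rw [← Nat.card_congr f.toEquiv]
    exact Subgroup.card_quotient_dvd_card _
  have S := FinalGen.simple_of_conf C ((FinalGen.two_dvd_psu h.hn h.hF).trans hcardA)
  have hGl := FinalGen.glob_of_conf C
  have hCP : CharP F 2 := LZeroTop.charP_two h.hF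
  obtain ⟨D, Fl, hDt, hDA, -⟩ := LZeroTop.exists_fld S C.ht C.htA C.cyc h.hn h.hF h'.iso
  have hAE : Fl.A ≤ L.subgroupOf (L ⊔ zpowers e) := by rw [hDA]; exact C.le
  have hG : MainDef.Glob D.t (L.subgroupOf (L ⊔ zpowers e)) := by rw [hDt]; exact hGl
  obtain ⟨h2, h3⟩ := Main.out Fl hG hAE (fun e g c r heS h hg hs => by
      obtain ⟨X, hX⟩ := Next.exists_next D Fl.amb Fl.Sg Fl.Sg_two (fun s hs => Fl.Sg_norm s hs)
      exact GZeroMk.exists_gz h hg X (hs X) (fun s hs => hX e heS s hs))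
    (GOneMain.consOne Fl (L.subgroupOf (L ⊔ zpowers e)))
  rw [hDt] at h2
  have f : ↥(L.subgroupOf (L ⊔ zpowers e)) ≃* ↥L := subgroupOfEquivOfLe hLH
  have hS : IsSimpleGroup ↥(L.subgroupOf (L ⊔ zpowers e)) := C.simple
  have hthree : 3 ∣ Nat.card ↥(L.subgroupOf (L ⊔ zpowers e)) :=
    ((FinalRed.three_dvd_psu h.hF).trans hcardA).trans (Subgroup.card_dvd_of_le C.le)
  refine ⟨fun h4 => h2 (mem_subgroupOf.mpr h4), Kind.congr f.symm ?_⟩
  have : Fact (Nat.Prime 2) := ⟨Nat.prime_two⟩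
  rcases h3 with ⟨S', U, k1, k2, k3, k4⟩ | ⟨S', W, k1, k2, k3, -⟩
  · exact kind_of_closed S' U k1 k2 k3 k4 hthree
  · refine kind_of_ab S' ?_ W k3 k2 k1 hthree
    intro hc
    obtain ⟨x, hx, y, hy, hxy⟩ := Main.P_not_comm Fl
    have hP : IsPGroup 2 D.P := D.Q_two.to_le D.P_le
    have hPE : D.P ≤ L.subgroupOf (L ⊔ zpowers e) := fun p hp => hAE (Fl.P_A hp)
    have h5 : IsPGroup 2 (D.P.subgroupOf (L.subgroupOf (L ⊔ zpowers e))) := hP.comap_subtype
    obtain ⟨T, hT⟩ := h5.exists_le_sylow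
    have h6 : ∀ a b : ↥(L.subgroupOf (L ⊔ zpowers e)), a ∈ (T : Subgroup ↥(L.subgroupOf (L ⊔ zpowers e))) →
        b ∈ (T : Subgroup ↥(L.subgroupOf (L ⊔ zpowers e))) → a * b = b * a := by
      intro a b ha hb
      have e1 := Sylow.equiv T S'
      have h7 := hc.is_comm.comm (e1 ⟨a, ha⟩) (e1 ⟨b, hb⟩)
      rw [← map_mul, ← map_mul] at h7
      exact congrArg Subtype.val (e1.injective h7)
    apply hxy
    have h8 := h6 ⟨x, hPE hx⟩ ⟨y, hPE hy⟩ (hT (mem_subgroupOf.mpr hx)) (hT (mem_subgroupOf.mpr hy))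
    exact congrArg Subtype.val h8

end Cfsg.Agent.H298.UThree
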