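import Cfsg.Agent.H298.UThree.FourA
import Cfsg.Agent.CpQuot.Quo

/-!
# S3151: the configuration passes to the quotient by a normal subgroup of odd order
-/

set_option autoImplicit false
set_option linter.unusedSectionVars false

namespace Cfsg.Agent.H298.UThree

open Subgroup Cfsg.Agent.OddHalf.D4.Basic
open Cfsg.Agent.OddHalf.D4.CommConj (cj mem_cj cj_mul card_cj cj_eq_of_mem_normalizer mem_normalizer_of_cj_eq
  mem_cj_mul)

universe u v

variable {G : Type u} [Group G]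

/-- involutions congruent modulo a normal subgroup of odd order are conjugate under it -/
theorem exists_conj_of_odd [Finite G] {N : Subgroup G} (hodd : Odd (Nat.card ↥N)) {e f : G} (he : e * e = 1)
    (hf : f * f = 1) (hef : f * e ∈ N) : ∃ m ∈ N, m * e * m⁻¹ = f := by
  obtain ⟨s, hs⟩ := hodd
  have hei : e⁻¹ = e := inv_eq_of_mul_eq_one_left he
  have hfi : f⁻¹ = f := inv_eq_of_mul_eq_one_left hf
  have hr : (f * e) ^ (2 * s + 1) = 1 := by
    rw [← hs]
    have : (⟨f * e, hef⟩ : ↥N) ^ Nat.card ↥N = 1 := pow_card_eq_one'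
    exact congrArg Subtype.val this
  have hsc : SemiconjBy e (f * e)⁻¹ (f * e) := by
    show e * (f * e)⁻¹ = f * e * e
    rw [mul_inv_rev, hei, hfi, ← mul_assoc, he, one_mul, mul_assoc, he, mul_one]
  have h1 : e * ((f * e) ^ (s + 1))⁻¹ = (f * e) ^ (s + 1) * e := by
    rw [← inv_pow]
    exact hsc.pow_right (s + 1)
  refine ⟨(f * e) ^ (s + 1), pow_mem hef _, ?_⟩
  rw [mul_assoc, h1, ← mul_assoc, ← pow_add, show s + 1 + (s + 1) = (2 * s + 1) + 1 by ring, pow_succ, hr, one_mul,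
    mul_assoc, he, mul_one]

/-- centralisers of involutions in the quotient by an odd normal subgroup -/
theorem exists_lift_comm [Finite G] {N : Subgroup G} [hN : N.Normal] (hodd : Odd (Nat.card ↥N)) {e x : G}
    (he : e * e = 1)
    (hx : (QuotientGroup.mk' N x) * (QuotientGroup.mk' N e) = (QuotientGroup.mk' N e) * (QuotientGroup.mk' N x)) :
    ∃ y : G, QuotientGroup.mk' N y = QuotientGroup.mk' N x ∧ y * e = e * y := by
  have h1 : x * e * x⁻¹ * e ∈ N := by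
    have h2 : QuotientGroup.mk' N (x * e * x⁻¹ * e) = 1 := by
      rw [map_mul, map_mul, map_mul, hx, map_inv, mul_inv_cancel_right, ← map_mul, he, map_one]
    rw [← QuotientGroup.ker_mk' N]
    exact h2
  obtain ⟨m, hm, hme⟩ := exists_conj_of_odd hodd he (f := x * e * x⁻¹) (by
    calc x * e * x⁻¹ * (x * e * x⁻¹) = x * (e * e) * x⁻¹ := by group
      _ = 1 := by rw [he]; group) h1
  refine ⟨m⁻¹ * x, ?_, ?_⟩
  · rw [map_mul]
    have h3 : QuotientGroup.mk' N m⁻¹ = 1 := by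
      have := inv_mem hm
      rw [← QuotientGroup.ker_mk' N] at this
      exact this
    rw [h3, one_mul]
  · calc m⁻¹ * x * e = m⁻¹ * (x * e * x⁻¹) * x := by group
      _ = m⁻¹ * (m * e * m⁻¹) * x := by rw [hme]
      _ = e * (m⁻¹ * x) := by group

/-- elements centralising `K` modulo a normal subgroup of odd order -/
theorem comm_of_mod [Finite G] {K N : Subgroup G} (hq : Cfsg.IsQuasisimple ↥K) (hKe : ∃ x ∈ K, orderOf x = 2)
    (hN : N.Normal) (hodd : Odd (Nat.card ↥N)) {y : G} (hyK : ∀ k ∈ K, y * k * y⁻¹ ∈ K)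
    (hy : ∀ k ∈ K, y * k * y⁻¹ * k⁻¹ ∈ N) : y ∈ centralizer (K : Set G) := by
  have hp : commutator ↥K = ⊤ := hq.1.commutator_eq_top
  have h1 : N ⊓ K ≤ centralizer (K : Set G) := by
    have h2 : (N.subgroupOf K).Normal := inferInstance
    rcases Cfsg.Agent.SignalizersComponents.Components.quasisimple_normal hq _ h2 with h3 | h3
    · exfalso
      obtain ⟨x, hx, hx2⟩ := hKe
      exact (Nat.not_even_iff_odd.mpr hodd) (even_of_mem hx2 ((subgroupOf_eq_top.mp h3) hx))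
    · intro x hx
      obtain ⟨hxN, hxK⟩ := mem_inf.mp hx
      have h4 : (⟨x, hxK⟩ : ↥K) ∈ center ↥K := h3 (mem_subgroupOf.mpr hxN)
      rw [mem_centralizer_iff]
      intro k hk
      exact congrArg Subtype.val (mem_center_iff.mp h4 ⟨k, hk⟩)
  apply comm_of_central hp
  intro k hk
  have h2 : y * k * y⁻¹ * k⁻¹ ∈ K := mul_mem (hyK k hk) (inv_mem hk)
  exact ⟨h2, h1 (mem_inf.mpr ⟨hy k hk, h2⟩)⟩

variable {E K : Subgroup G} {F : Type v} [Field F] [Fintype F] {n : ℕ}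

/-- **the configuration in `G / N`, `N` normal of odd order** -/
theorem Hyp.quot [Finite G] (h : Hyp E K F n) {N : Subgroup G} [hN : N.Normal] (hodd : Odd (Nat.card ↥N)) :
    Hyp (E.map (QuotientGroup.mk' N)) (K.map (QuotientGroup.mk' N)) F n := by
  have hker : ∀ x, QuotientGroup.mk' N x = 1 ↔ x ∈ N := fun x => by
    rw [← MonoidHom.mem_ker, QuotientGroup.ker_mk']
  have hne : ∀ e ∈ E, e ≠ 1 → QuotientGroup.mk' N e ≠ 1 := by
    intro e he he1 h1
    rw [hker] at h1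
    apply he1
    have h3 : e ^ Nat.card ↥N = 1 := by
      have : (⟨e, h1⟩ : ↥N) ^ Nat.card ↥N = 1 := pow_card_eq_one'
      exact congrArg Subtype.val this
    exact (Two.of_mem h.c.E_two he).eq_one_of_odd hodd h3
  have hne' : ∀ e ∈ E, QuotientGroup.mk' N e ≠ 1 → e ≠ 1 := by
    rintro e - h1 rfl
    exact h1 (map_one _)
  let f : ↥K →* ↥(K.map (QuotientGroup.mk' N)) := (QuotientGroup.mk' N).subgroupMap K
  have hf : Function.Surjective f := (QuotientGroup.mk' N).subgroupMap_surjective K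
  have hnt : Nontrivial ↥(K.map (QuotientGroup.mk' N)) := by
    obtain ⟨x, hx, hx2⟩ := h.K_even
    refine ⟨⟨⟨_, ⟨x, hx, rfl⟩⟩, 1, ?_⟩⟩
    intro h1
    have h2 : QuotientGroup.mk' N x = 1 := congrArg Subtype.val h1
    rw [hker] at h2
    exact (Nat.not_even_iff_odd.mpr hodd) (even_of_mem hx2 h2)
  have hqs := Cfsg.Agent.CpQuot.Quo.quasisimple h.c.qs f hf
  refine ⟨⟨?_, ?_, ?_, ?_, ?_, ?_, hqs, ?_⟩, h.hn, h.hF, ?_⟩
  · obtain ⟨e, he, he1⟩ := h.c.ne
    exact ⟨_, ⟨e, he, rfl⟩, hne e he he1⟩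
  · rintro _ ⟨e, he, rfl⟩
    rw [← map_mul, h.c.sq e he, map_one]
  · rintro _ ⟨e, he, rfl⟩ he1 _ ⟨g, hg, rfl⟩ x hx
    obtain ⟨x, rfl⟩ := QuotientGroup.mk'_surjective N x
    obtain ⟨y, hy, hye⟩ := exists_lift_comm hodd (h.c.sq e he) hx
    rw [← hy, ← map_mul, ← map_mul, h.c.cen e he (hne' e he he1) g hg y hye]
  · rintro _ ⟨e, he, rfl⟩ _ ⟨k, hk, rfl⟩
    rw [← map_mul, ← map_mul, h.c.Kc e he k hk]
  · rintro _ ⟨e, he, rfl⟩ he1 x hx _ ⟨k, hk, rfl⟩
    obtain ⟨x, rfl⟩ := QuotientGroup.mk'_surjective N x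
    obtain ⟨y, hy, hye⟩ := exists_lift_comm hodd (h.c.sq e he) hx
    rw [← hy, ← map_mul, ← map_inv, ← map_mul]
    exact ⟨_, h.c.nor e he (hne' e he he1) y hye k hk, rfl⟩
  · rintro _ ⟨e, he, rfl⟩ he1 x hx hxK
    obtain ⟨x, rfl⟩ := QuotientGroup.mk'_surjective N x
    obtain ⟨y, hy, hye⟩ := exists_lift_comm hodd (h.c.sq e he) hx
    rw [← hy] at hxK ⊢
    have h1 := h.c.nor e he (hne' e he he1) y hye
    have h2 : y ∈ centralizer (K : Set G) := by
      apply comm_of_mod h.c.qs h.K_even hN hodd h1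
      intro k hk
      rw [← hker, map_mul, map_mul, map_mul, map_inv, map_inv, ← mem_centralizer_iff.mp hxK _ ⟨k, hk, rfl⟩]
      group
    obtain ⟨g, hg, w, hw, hwc, hyw⟩ := h.c.cK e he (hne' e he he1) y hye h2
    refine ⟨_, ⟨g, hg, rfl⟩, _, ⟨w, hw, rfl⟩, ?_, by rw [hyw, map_mul]⟩
    rw [mem_centralizer_iff]
    rintro _ ⟨k, hk, rfl⟩
    rw [← map_mul, ← map_mul, mem_centralizer_iff.mp hwc k hk]
  · have h1 := Cfsg.Agent.CpQuot.Quo.card_ker_mul h.c.qs f hf
    exact Odd.of_dvd_nat h.c.odd (Dvd.intro_left _ h1)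
  · obtain ⟨e⟩ := Cfsg.Agent.CpQuot.Quo.nonempty_equiv h.c.qs f hf
    obtain ⟨e'⟩ := h.iso
    exact ⟨e.symm.trans e'⟩

end Cfsg.Agent.H298.UThree
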