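import Cfsg.Agent.SignalizersComponents.StandardTools
import Cfsg.Agent.H298.UThree.Rep

/-!
# S3151: `K` is a standard subgroup; the action on `K` at the level of `G`
-/

set_option autoImplicit false
set_option linter.unusedSectionVars false

namespace Cfsg.Agent.H298.UThree

open Subgroup Cfsg.Agent.OddHalf.D4.Basic
open Cfsg.Agent.OddHalf.D4.CommConj (cj mem_cj cj_mul card_cj cj_eq_of_mem_normalizer mem_normalizer_of_cj_eq
  mem_cj_mul)
open Cfsg.Agent.SignalizersComponents.Components Cfsg.Agent.SignalizersComponents.StandardTools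
open Cfsg.Agent.OddHalf.D4.U3.ParDefs
open Cfsg.Agent.H298.UThree.Act

universe u v

section basic

variable {G : Type*} [Group G] {E K : Subgroup G}

theorem conj_comm_iff {g x y : G} : x * (g * y * g⁻¹) = g * y * g⁻¹ * x ↔
    g⁻¹ * x * g * y = y * (g⁻¹ * x * g) := by
  constructor
  · intro h
    calc g⁻¹ * x * g * y = g⁻¹ * (x * (g * y * g⁻¹)) * g := by group
      _ = g⁻¹ * (g * y * g⁻¹ * x) * g := by rw [h]
      _ = y * (g⁻¹ * x * g) := by group
  · intro h
    calc x * (g * y * g⁻¹) = g * (g⁻¹ * x * g * y) * g⁻¹ := by group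
      _ = g * (y * (g⁻¹ * x * g)) * g⁻¹ := by rw [h]
      _ = g * y * g⁻¹ * x := by group

theorem mem_cent_cj {g x : G} {K : Subgroup G} :
    x ∈ centralizer (cj g K : Set G) ↔ g⁻¹ * x * g ∈ centralizer (K : Set G) := by
  rw [mem_centralizer_iff, mem_centralizer_iff]
  constructor
  · intro h k hk
    have h1 := h (g * k * g⁻¹) (mem_cj_mul hk)
    exact (conj_comm_iff.mp h1.symm).symm
  · intro h y hy
    have hy' : y ∈ cj g K := hy
    rw [mem_cj] at hy'
    have h1 := h _ hy'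
    have e : y = g * (g⁻¹ * y * g) * g⁻¹ := by group
    rw [e]
    exact (conj_comm_iff.mpr h1.symm).symm

namespace Cfg

/-- conjugates of a configuration -/
theorem conj (c : Cfg E K) (g : G) : Cfg (cj g E) (cj g K) where
  ne := by
    obtain ⟨e, he, he1⟩ := c.ne
    refine ⟨g * e * g⁻¹, mem_cj_mul he, ?_⟩
    intro h
    apply he1
    have : e = g⁻¹ * (g * e * g⁻¹) * g := by group
    rw [this, h]; group
  sq := by
    rintro _ ⟨e, he, rfl⟩
    show g * e * g⁻¹ * (g * e * g⁻¹) = 1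
    have e1 : g * e * g⁻¹ * (g * e * g⁻¹) = g * (e * e) * g⁻¹ := by group
    rw [e1, c.sq e he]; group
  cen := by
    rintro _ ⟨e, he, rfl⟩ he1 _ ⟨f, hf, rfl⟩ x hx
    have he1' : e ≠ 1 := by rintro rfl; exact he1 (map_one _)
    exact conj_comm_iff.mpr (c.cen e he he1' f hf _ (conj_comm_iff.mp hx))
  Kc := by
    rintro _ ⟨e, he, rfl⟩ _ ⟨k, hk, rfl⟩
    show g * e * g⁻¹ * (g * k * g⁻¹) = g * k * g⁻¹ * (g * e * g⁻¹)
    have e1 : g * e * g⁻¹ * (g * k * g⁻¹) = g * (e * k) * g⁻¹ := by group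
    rw [e1, c.Kc e he k hk]; group
  nor := by
    rintro _ ⟨e, he, rfl⟩ he1 x hx _ ⟨k, hk, rfl⟩
    have he1' : e ≠ 1 := by rintro rfl; exact he1 (map_one _)
    have h1 := c.nor e he he1' _ (conj_comm_iff.mp hx) k hk
    rw [mem_cj]
    show g⁻¹ * (x * (g * k * g⁻¹) * x⁻¹) * g ∈ K
    have e1 : g⁻¹ * (x * (g * k * g⁻¹) * x⁻¹) * g = g⁻¹ * x * g * k * (g⁻¹ * x * g)⁻¹ := by group
    rw [e1]
    exact h1
  cK := by
    rintro _ ⟨e, he, rfl⟩ he1 x hx hxK
    have he1' : e ≠ 1 := by rintro rfl; exact he1 (map_one _)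
    rw [mem_cent_cj] at hxK
    obtain ⟨f, hf, w, hw, hwc, h⟩ := c.cK e he he1' _ (conj_comm_iff.mp hx) hxK
    refine ⟨g * f * g⁻¹, mem_cj_mul hf, g * w * g⁻¹, mem_cj_mul hw, ?_, ?_⟩
    · rw [mem_cent_cj]
      have e1 : g⁻¹ * (g * w * g⁻¹) * g = w := by group
      rwa [e1]
    · calc x = g * (g⁻¹ * x * g) * g⁻¹ := by group
        _ = g * (f * w) * g⁻¹ := by rw [h]
        _ = g * f * g⁻¹ * (g * w * g⁻¹) := by group
  qs := isQuasisimple_of_mulEquiv (K.equivMapOfInjective _ (MulAut.conj g).injective) c.qs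
  odd := by
    rw [← Nat.card_congr (Subgroup.centerCongr
      (K.equivMapOfInjective (MulAut.conj g).toMonoidHom (MulAut.conj g).injective)).toEquiv]
    exact c.odd

theorem Kle (c : Cfg E K) {e x : G} (he : e ∈ E) (hx : x ∈ K) : x * e = e * x := (c.Kc e he x hx).symm

/-- a conjugate of `K` centralised by an involution of `C(K)` is `K` -/
theorem eq_of [Finite G] (c : Cfg E K) (hna : ∃ P ≤ K, IsPGroup 2 ↥P ∧ ∃ x ∈ P, ∃ y ∈ P, x * y ≠ y * x)
    {g x : G} (hx : x ∈ centralizer (K : Set G)) (h2 : orderOf x = 2)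
    (hx' : x ∈ centralizer (cj g K : Set G)) : cj g K = K := by
  have h1 : cj g K ≤ normalizer (K : Set G) := by
    intro y hy
    rw [mem_normalizer_iff]
    have hyx : y * x = x * y := mem_centralizer_iff.mp hx' y hy
    have hyx' : y⁻¹ * x = x * y⁻¹ := by
      rw [inv_mul_eq_iff_eq_mul, ← mul_assoc, hyx, mul_inv_cancel_right]
    intro k
    constructor
    · exact fun hk => c.nor' hx h2 hyx hk
    · intro hk
      have := c.nor' hx h2 hyx' hk
      have e : y⁻¹ * (y * k * y⁻¹) * y⁻¹⁻¹ = k := by group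
      rwa [e] at this
  have h3 : K ≤ normalizer (cj g K : Set G) := by
    intro y hy
    rw [mem_normalizer_iff]
    have hyx : y * x = x * y := mem_centralizer_iff.mp hx y hy
    have hyx' : y⁻¹ * x = x * y⁻¹ := by
      rw [inv_mul_eq_iff_eq_mul, ← mul_assoc, hyx, mul_inv_cancel_right]
    intro k
    constructor
    · exact fun hk => (c.conj g).nor' hx' h2 hyx hk
    · intro hk
      have := (c.conj g).nor' hx' h2 hyx' hk
      have e : y⁻¹ * (y * k * y⁻¹) * y⁻¹⁻¹ = k := by group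
      rwa [e] at this
  rcases le_or_le_centralizer c.qs h1 h3 with h | h
  · symm
    apply eq_of_le_of_card_ge h
    rw [card_cj]
  · exfalso
    obtain ⟨P, hPK, hP2, a, ha, b, hb, hab⟩ := hna
    have h4 : cj g P ≤ centralizer (K : Set G) := by
      rintro _ ⟨z, hz, rfl⟩
      exact h (mem_cj_mul (hPK hz))
    obtain ⟨m, hm, h5⟩ := c.isSyl.conj_into (hP2.map (MulAut.conj g).toMonoidHom) h4
    have ha' := h5 _ (mem_cj_mul ha)
    have hb' := h5 _ (mem_cj_mul hb)
    have h6 := c.E_comm ha' hb'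
    apply hab
    calc a * b = g⁻¹ * m⁻¹ * (m * (g * a * g⁻¹) * m⁻¹ * (m * (g * b * g⁻¹) * m⁻¹)) * m * g := by group
      _ = g⁻¹ * m⁻¹ * (m * (g * b * g⁻¹) * m⁻¹ * (m * (g * a * g⁻¹) * m⁻¹)) * m * g := by rw [h6]
      _ = b * a := by group

/-- **`K` is a standard subgroup** -/
theorem isStandard [Finite G] (c : Cfg E K)
    (hna : ∃ P ≤ K, IsPGroup 2 ↥P ∧ ∃ x ∈ P, ∃ y ∈ P, x * y ≠ y * x) : Cfsg.IsStandardSubgroup K := by
  obtain ⟨e, he, he1⟩ := c.ne
  have he2 : orderOf e = 2 := orderOf_eq_prime (by rw [pow_two]; exact c.sq e he) he1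
  -- the key fact
  have key : ∀ g : G, ¬ Odd (Nat.card ↥(centralizer (K : Set G) ⊓
      (centralizer (K : Set G)).map (MulAut.conj g).toMonoidHom)) → cj g K = K := by
    intro g hg
    rw [Nat.not_odd_iff_even] at hg
    obtain ⟨x, hx, hx2⟩ := exists_invol_of_even hg
    refine c.eq_of hna (mem_inf.mp hx).1 hx2 ?_
    have h1 : x ∈ cj g (centralizer (K : Set G)) := (mem_inf.mp hx).2
    rw [mem_cj] at h1
    rw [mem_cent_cj]
    exact h1
  have hNN : ∀ g : G, g ∈ normalizer (K : Set G) → cj g (centralizer (K : Set G)) = centralizer (K : Set G) := by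
    intro g hg
    ext x
    rw [mem_cj, ← mem_cent_cj, cj_eq_of_mem_normalizer hg]
  refine ⟨c.qs, ⟨even_of_mem he2 (c.E_le he), ?_⟩, ?_, ?_⟩
  · intro g hg
    by_contra h
    apply hg
    apply mem_normalizer_of_cj_eq
    exact hNN g (mem_normalizer_of_cj_eq (key g h))
  · intro g hne h
    apply hne
    rw [commutator_comm, commutator_eq_bot_iff_le_centralizer] at h
    -- `K^g ≤ C(K)`
    exfalso
    obtain ⟨P, hPK, hP2, a, ha, b, hb, hab⟩ := hna
    have h4 : cj g P ≤ centralizer (K : Set G) := by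
      rintro _ ⟨z, hz, rfl⟩
      exact h (mem_cj_mul (hPK hz))
    obtain ⟨m, hm, h5⟩ := c.isSyl.conj_into (hP2.map (MulAut.conj g).toMonoidHom) h4
    have ha' := h5 _ (mem_cj_mul ha)
    have hb' := h5 _ (mem_cj_mul hb)
    have h6 := c.E_comm ha' hb'
    apply hab
    calc a * b = g⁻¹ * m⁻¹ * (m * (g * a * g⁻¹) * m⁻¹ * (m * (g * b * g⁻¹) * m⁻¹)) * m * g := by group
      _ = g⁻¹ * m⁻¹ * (m * (g * b * g⁻¹) * m⁻¹ * (m * (g * a * g⁻¹) * m⁻¹)) * m * g := by rw [h6]
      _ = b * a := by group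
  · apply le_antisymm
    · intro g hg
      exact mem_normalizer_of_cj_eq (hNN g hg)
    · intro g hg
      apply mem_normalizer_of_cj_eq
      apply key g
      rw [Nat.not_odd_iff_even]
      have h1 : cj g (centralizer (K : Set G)) = centralizer (K : Set G) := cj_eq_of_mem_normalizer hg
      have h2 : centralizer (K : Set G) ⊓ (centralizer (K : Set G)).map (MulAut.conj g).toMonoidHom =
          centralizer (K : Set G) := by
        show centralizer (K : Set G) ⊓ cj g (centralizer (K : Set G)) = _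
        rw [h1, inf_idem]
      rw [h2]
      exact even_of_mem he2 (c.E_le he)

end Cfg

end basic

end Cfsg.Agent.H298.UThree
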