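import Cfsg.Agent.H298.UThree.Local
import Cfsg.Agent.TypeL3.Model
import Cfsg.Agent.TypeSpFour.Model
import Cfsg.Agent.OddHalf.D4.RkEnd.Tools
import Cfsg.Agent.Lib.ProductSet

/-!
# S3151: `L` of type `PSL₃`, `PSp₄`: `e` interchanges the two elementary abelian subgroups
-/

set_option autoImplicit false
set_option linter.unusedSectionVars false

namespace Cfsg.Agent.H298.UThree

open Subgroup Cfsg.Agent.OddHalf.D4.Basic Cfsg.Agent.OddHalf.D4.U3.ParDefs
open Cfsg.Agent.OddHalf.D4.CommConj (cj mem_cj cj_mul card_cj cj_eq_of_mem_normalizer mem_normalizer_of_cj_eq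
  mem_cj_mul)
open Cfsg.Agent.OddHalf.D4.RkEnd.Tools (cj_one)

universe u v

section AB

variable {G : Type u} [Group G]

/-- the Sylow 2-subgroup `T = AB` of `PSL₃` or `PSp₄` -/
structure AB (T A B : Subgroup G) : Prop extends Cfsg.Agent.TypeL3.IsAB T A B where
  num : ∃ Q, Nat.card ↥A = Q * Nat.card ↥(A ⊓ B) ∧ Nat.card ↥B = Q * Nat.card ↥(A ⊓ B) ∧
    Q ≤ Nat.card ↥(A ⊓ B)

theorem AB.symm {T A B : Subgroup G} (h : AB T A B) : AB T B A := by
  obtain ⟨Q, h1, h2, h3⟩ := h.num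
  refine ⟨h.toIsAB.symm, Q, ?_, ?_, ?_⟩
  · rw [inf_comm]; exact h2
  · rw [inf_comm]; exact h1
  · rw [inf_comm]; exact h3

theorem charP_even {F : Type*} [Field F] [Fintype F] [CharP F 2] : Even (Fintype.card F) := by
  obtain ⟨n, -, hn⟩ := FiniteField.card F 2
  rw [hn]
  exact even_iff_two_dvd.mpr (dvd_pow_self 2 n.2.ne')

open Cfsg.Agent.TypeSpFour.Half in
theorem card_B {F : Type*} [Field F] {S A B : Subgroup G} {x y c d : F → G} (h : HalfC2 S A B x y c d) :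
    Nat.card B = Nat.card F ^ 3 := by
  have h1 : Nat.card F ^ 3 = Nat.card (F × F × F) := by
    rw [Nat.card_prod, Nat.card_prod]; ring
  rw [h1]
  have inj : ∀ {a γ δ a' γ' δ' : F}, y a * (c γ * d δ) = y a' * (c γ' * d δ') → a = a' ∧ γ = γ' ∧ δ = δ' := by
    intro a γ δ a' γ' δ' e
    have h2 : y (a - a') ∈ A := by
      have h3 : y (a - a') = y a * (y a')⁻¹ := by
        rw [sub_eq_add_neg, h.y_add, hom_neg h.y_add]
      have h4 : y a * (y a')⁻¹ = y a' * ((c γ' * d δ') * (c γ * d δ)⁻¹) * (y a')⁻¹ := by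
        have h5 : y a = y a' * (c γ' * d δ') * (c γ * d δ)⁻¹ := by rw [← e]; group
        rw [h5]; group
      have hz : (c γ' * d δ') * (c γ * d δ)⁻¹ ∈ A ⊓ B :=
        mul_mem (mul_mem (h.c_mem _) (h.d_mem _)) (inv_mem (mul_mem (h.c_mem _) (h.d_mem _)))
      rw [h3, h4]
      have h6 := h.toIsAB.comm_Z hz (h.B_le (h.y_mem a'))
      rw [← h6, mul_assoc, mul_inv_cancel, mul_one]
      exact (mem_inf.1 hz).1
    have h3 : a - a' = 0 := h.y_mem_A h2
    have h4 : a = a' := sub_eq_zero.mp h3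
    subst h4
    exact ⟨rfl, h.inj_Z2 (mul_left_cancel e)⟩
  refine (Nat.card_congr (Equiv.ofBijective
    (fun p : F × F × F => (⟨y p.1 * (c p.2.1 * d p.2.2), (h.mem_B' _).2 ⟨_, _, _, rfl⟩⟩ : B)) ⟨?_, ?_⟩)).symm
  · rintro ⟨a, γ, δ⟩ ⟨a', γ', δ'⟩ e
    obtain ⟨h1, h2, h3⟩ := inj (congrArg Subtype.val e)
    exact Prod.ext h1 (Prod.ext h2 h3)
  · rintro ⟨g, hg⟩
    obtain ⟨a, γ, δ, rfl⟩ := (h.mem_B' _).1 hg
    exact ⟨(a, γ, δ), rfl⟩

/-- for `PSL₃` and `PSp₄` -/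
def KindAB (L : Type*) [Group L] : Prop :=
  (∃ (F : Type) (_ : Field F) (_ : Fintype F), CharP F 2 ∧
      Nonempty (L ≃* Matrix.ProjectiveSpecialLinearGroup (Fin 3) F)) ∨
    (∃ (F : Type) (_ : Field F) (_ : Fintype F), CharP F 2 ∧ 4 ≤ Fintype.card F ∧ Nonempty (L ≃* Cfsg.PSp 2 F))

theorem exists_ab [Finite G] {L : Subgroup G} (hL : KindAB ↥L) {T : Subgroup G} (hT : IsSyl T L) :
    ∃ A B : Subgroup G, AB T A B := by
  have : Fact (Nat.Prime 2) := ⟨Nat.prime_two⟩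
  obtain ⟨P, hP⟩ := hT.toSylow
  have e1 : ↥T ≃* ↥(P : Subgroup ↥L) := by
    rw [hP]
    exact (subgroupOfEquivOfLe hT.le).symm
  rcases hL with ⟨F, _, _, hF, ⟨f⟩⟩ | ⟨F, _, _, hF, h4, ⟨f⟩⟩
  · have e2 : ↥(P : Subgroup ↥L) ≃* ↥((P.mapSurjective (f := f.toMonoidHom) f.surjective : Sylow 2 _) :
        Subgroup (Matrix.ProjectiveSpecialLinearGroup (Fin 3) F)) :=
      (P : Subgroup ↥L).equivMapOfInjective f.toMonoidHom f.injective
    obtain ⟨e3⟩ := Cfsg.Agent.SylowL.SylowPSL.sylow_equiv 2 (P.mapSurjective (f := f.toMonoidHom) f.surjective)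
    obtain ⟨A, B, -, -, -, h1, -⟩ := Cfsg.Agent.TypeL3.exists_isL3 ((e1.trans e2).trans e3)
    refine ⟨A, B, h1.toIsAB, Fintype.card F, ?_, ?_, ?_⟩
    · rw [h1.card_A, h1.card_Z, pow_two]
    · rw [h1.card_B, h1.card_Z, pow_two]
    · rw [h1.card_Z]
  · have e2 : ↥(P : Subgroup ↥L) ≃* ↥((P.mapSurjective (f := f.toMonoidHom) f.surjective : Sylow 2 _) :
        Subgroup (Cfsg.PSp 2 F)) :=
      (P : Subgroup ↥L).equivMapOfInjective f.toMonoidHom f.injective
    obtain ⟨A, B, x, y, c, d, h1⟩ := Cfsg.Agent.TypeSpFour.Model.exists_halfC2 charP_even h4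
      (P.mapSurjective (f := f.toMonoidHom) f.surjective) T ⟨e1.trans e2⟩
    have h2 := h1.card_Z
    have h3 := h1.card_A
    have h4' : Nat.card ↥B = Nat.card F ^ 3 := card_B h1
    refine ⟨A, B, h1.toIsAB, Nat.card F, ?_, ?_, ?_⟩
    · rw [h3, h2]; ring
    · rw [h4', h2]; ring
    · rw [h2, pow_two]
      exact Nat.le_mul_of_pos_left _ (Nat.card_pos)

/-- elements of order two acting on an elementary abelian 2-group -/
theorem card_le_sq [Finite G] {A : Subgroup G} (hA : ∀ a ∈ A, a * a = 1) {e : G} (he : e * e = 1)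
    (heA : ∀ a ∈ A, e * a * e⁻¹ ∈ A) :
    Nat.card ↥A ≤ Nat.card ↥(A ⊓ centralizer ({e} : Set G)) ^ 2 := by
  have hcomm : ∀ a ∈ A, ∀ b ∈ A, a * b = b * a := fun a ha b hb =>
    Cfsg.Agent.OddHalf.D4.RkEnd.Tools.comm_of_elem hA ha hb
  have hinv : ∀ a ∈ A, a⁻¹ = a := fun a ha => inv_eq_of_mul_eq_one_left (hA a ha)
  let f : ↥A →* ↥A := MonoidHom.mk' (fun a => ⟨(a : G) * (e * a * e⁻¹), mul_mem a.2 (heA a a.2)⟩) (by
    intro a b
    apply Subtype.ext
    show (a : G) * b * (e * (a * b) * e⁻¹) = a * (e * a * e⁻¹) * (b * (e * b * e⁻¹))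
    have h1 := hcomm _ (heA a a.2) b b.2
    calc (a : G) * b * (e * (a * b) * e⁻¹) = a * (b * (e * a * e⁻¹)) * (e * b * e⁻¹) := by group
      _ = a * (e * a * e⁻¹) * (b * (e * b * e⁻¹)) := by rw [← h1]; group)
  have h1 : Nat.card ↥A = Nat.card ↥f.ker * Nat.card ↥f.range := by
    rw [mul_comm, Subgroup.card_eq_card_quotient_mul_card_subgroup f.ker,
      Nat.card_congr (QuotientGroup.quotientKerEquivRange f).toEquiv]
  have key : ∀ a ∈ A, e * a * e⁻¹ = a → a ∈ A ⊓ centralizer ({e} : Set G) := by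
    intro a ha h
    refine mem_inf.mpr ⟨ha, ?_⟩
    rw [mem_centralizer_iff]
    rintro _ rfl
    rwa [mul_inv_eq_iff_eq_mul] at h
  have h2 : Nat.card ↥f.ker ≤ Nat.card ↥(A ⊓ centralizer ({e} : Set G)) := by
    apply Nat.card_le_card_of_injective (fun a : ↥f.ker =>
      (⟨((a : ↥A) : G), key _ (a : ↥A).2 (by
        have h3 : (((a : ↥A) : G)) * (e * (a : ↥A) * e⁻¹) = 1 := congrArg Subtype.val (f.mem_ker.mp a.2)
        have h4 := eq_inv_of_mul_eq_one_right h3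
        rw [h4, hinv _ (a : ↥A).2])⟩ : ↥(A ⊓ centralizer ({e} : Set G))))
    intro a b hab
    have h9 : ((a : ↥A) : G) = (b : ↥A) := by
      have h8 := hab
      simp only [Subtype.mk.injEq] at h8
      exact h8
    exact Subtype.ext (Subtype.ext h9)
  have h3 : Nat.card ↥f.range ≤ Nat.card ↥(A ⊓ centralizer ({e} : Set G)) := by
    apply Nat.card_le_card_of_injective (fun a : ↥f.range =>
      (⟨((a : ↥A) : G), key _ (a : ↥A).2 (by
        obtain ⟨b, hb⟩ := a.2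
        have h4 : ((a : ↥A) : G) = (b : G) * (e * b * e⁻¹) := by rw [← hb]; rfl
        rw [h4]
        have h5 := hcomm _ b.2 _ (heA b b.2)
        calc e * ((b : G) * (e * b * e⁻¹)) * e⁻¹ = (e * b * e⁻¹) * ((e * e) * b * (e * e)⁻¹) := by group
          _ = (e * b * e⁻¹) * b := by rw [he]; group
          _ = b * (e * b * e⁻¹) := h5.symm)⟩ : ↥(A ⊓ centralizer ({e} : Set G))))
    intro a b hab
    have h9 : ((a : ↥A) : G) = (b : ↥A) := by
      have h8 := hab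
      simp only [Subtype.mk.injEq] at h8
      exact h8
    exact Subtype.ext (Subtype.ext h9)
  rw [h1, pow_two]
  exact Nat.mul_le_mul h2 h3

theorem card_T [Finite G] {T A B : Subgroup G} (h : Cfsg.Agent.TypeL3.IsAB T A B) :
    Nat.card ↥T * Nat.card ↥(A ⊓ B) = Nat.card ↥A * Nat.card ↥B := by
  rw [← Cfsg.Agent.Lib.ProductSet.card_mul_card_inf A B]
  congr 1
  apply congrArg Nat.card
  apply congrArg
  ext x
  constructor
  · intro hx
    obtain ⟨a, ha, b, hb, rfl⟩ := h.prod x hx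
    exact ⟨a, ha, b, hb, rfl⟩
  · rintro ⟨a, ha, b, hb, rfl⟩
    exact mul_mem (h.A_le ha) (h.B_le hb)

end AB

section Env

variable {G : Type u} [Group G] [Finite G] {E K : Subgroup G} {F : Type v} [Field F] [Fintype F] {n : ℕ}

/-- (G8) -/
theorem Hyp.card_P (h : Hyp E K F n) {P : Subgroup G} (hP : IsSyl P K) : (2 ^ n) ^ 3 ≤ Nat.card ↥P := by
  obtain ⟨A, i1, i2, i3, σ, i4, π, I, v⟩ := h.env
  obtain ⟨p⟩ := v.p
  obtain ⟨k, hk, hk2⟩ := v.r.amb.exists_cj p (v.r.im_syl hP)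
  rw [← p.card_S, ← hk2, card_cj]
  unfold im
  have h1 : Nat.card ↥((P.subgroupOf (normalizer (K : Set G))).map π) ≤
      Nat.card ↥(P.subgroupOf (normalizer (K : Set G))) :=
    Nat.card_le_card_of_surjective _ (π.subgroupMap_surjective (P.subgroupOf (normalizer (K : Set G))))
  refine h1.trans ?_
  apply Nat.card_le_card_of_injective
    (fun (x : ↥(P.subgroupOf (normalizer (K : Set G)))) => (⟨((x : ↥(normalizer (K : Set G))) : G), mem_subgroupOf.mp x.2⟩ : ↥P))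
  intro x y hxy
  have h9 : ((x : ↥(normalizer (K : Set G))) : G) = (y : ↥(normalizer (K : Set G))) := by
    have h8 := hxy
    simp only [Subtype.mk.injEq] at h8
    exact h8
  exact Subtype.ext (Subtype.ext h9)

end Env

variable {G : Type u} [Group G] [Finite G] {E K : Subgroup G} {F : Type v} [Field F] [Fintype F] {n : ℕ}

theorem swap_arith {q Q Z a y p pa t : ℕ} (hq : 4 ≤ q) (hZ : 0 < Z) (ha0 : 0 < a) (hQZ : Q ≤ Z) (ha : a = Q * Z)
    (hay : a ≤ y ^ 2) (hy : y ≤ 2 * q) (hp : q ^ 3 ≤ p) (hpa : pa ≤ q) (ht : t * Z = a * a)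
    (hpt : p * a ≤ t * pa) : False := by
  have h1 : q ^ 2 ≤ Q := by
    have h2 : t = Q * Q * Z := by
      apply Nat.eq_of_mul_eq_mul_right hZ
      rw [ht, ha]; ring
    by_contra hcon
    push Not at hcon
    have hQ : 0 < Q := by
      rcases Nat.eq_zero_or_pos Q with h0 | h0
      · rw [ha, h0, zero_mul] at ha0
        omega
      · exact h0
    have h3 : p * (Q * Z) ≤ Q * Q * Z * pa := by rw [← ha, ← h2]; exact hpt
    have h4 : (Q * Z) * p ≤ (Q * Z) * (Q * pa) := by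
      calc (Q * Z) * p = p * (Q * Z) := by ring
        _ ≤ Q * Q * Z * pa := h3
        _ = (Q * Z) * (Q * pa) := by ring
    have h5 := Nat.le_of_mul_le_mul_left h4 (Nat.mul_pos hQ hZ)
    have h6 : q ^ 3 ≤ Q * q := hp.trans (h5.trans (Nat.mul_le_mul_left _ hpa))
    have h7 : q * q ^ 2 ≤ q * Q := by
      calc q * q ^ 2 = q ^ 3 := by ring
        _ ≤ Q * q := h6
        _ = q * Q := by ring
    exact absurd (Nat.le_of_mul_le_mul_left h7 (by omega)) (by omega)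
  have h2 : Q * Q ≤ (2 * q) * (2 * q) := by
    calc Q * Q ≤ Q * Z := Nat.mul_le_mul_left _ hQZ
      _ = a := ha.symm
      _ ≤ y ^ 2 := hay
      _ = y * y := by ring
      _ ≤ (2 * q) * (2 * q) := Nat.mul_le_mul hy hy
  have h3 : Q ≤ 2 * q := Nat.mul_self_le_mul_self_iff.mp h2
  have h4 : q ^ 2 ≤ 2 * q := h1.trans h3
  nlinarith

/-- **`e` interchanges `A` and `B`** -/
theorem Hyp.swap (h : Hyp E K F n) {L : Subgroup G} (hEL : ∀ f ∈ E, f ∈ L → f = 1)
    {P T A B : Subgroup G} (hP : IsSyl P K) (hTL : T ≤ L) (hPT : P ≤ T) (hAB : AB T A B) {e : G}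
    (he : e ∈ E) (he1 : e ≠ 1) (heT : cj e T = T) : cj e A = B := by
  have hee := h.c.sq e he
  obtain ⟨Q, hA, hB, hQ⟩ := hAB.num
  have hcard : Nat.card ↥A = Nat.card ↥B := by rw [hA, hB]
  have hsub : cj e A ≤ T := by
    rw [← heT]
    rintro _ ⟨a, ha, rfl⟩
    exact mem_cj_mul (hAB.A_le ha)
  have hsq : ∀ x ∈ cj e A, x * x = 1 := by
    rintro _ ⟨a, ha, rfl⟩
    show e * a * e⁻¹ * (e * a * e⁻¹) = 1
    calc e * a * e⁻¹ * (e * a * e⁻¹) = e * (a * a) * e⁻¹ := by group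
      _ = 1 := by rw [hAB.A_sq a ha]; group
  rcases hAB.le_or_le hsub hsq with h1 | h1
  swap
  · exact eq_of_le_of_card_ge h1 (by rw [card_cj, hcard])
  exfalso
  have heA : ∀ a ∈ A, e * a * e⁻¹ ∈ A := fun a ha => h1 (mem_cj_mul ha)
  have k1 := card_le_sq hAB.A_sq hee heA
  have k2 : Nat.card ↥(A ⊓ centralizer ({e} : Set G)) ≤ 2 * 2 ^ n := by
    have hc : ∀ y ∈ A ⊓ centralizer ({e} : Set G), y * e = e * y := fun y hy =>
      (mem_centralizer_iff.mp (mem_inf.mp hy).2 e rfl).symm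
    apply h.card_le
    · intro y hy
      exact hAB.A_sq y (mem_inf.mp hy).1
    · intro y hy
      rw [mem_normalizer_iff]
      intro k
      constructor
      · exact fun hk => h.c.nor e he he1 y (hc y hy) k hk
      · intro hk
        have h2 := h.c.nor e he he1 y⁻¹ (by
          have := hc y hy
          calc y⁻¹ * e = y⁻¹ * (e * y) * y⁻¹ := by group
            _ = y⁻¹ * (y * e) * y⁻¹ := by rw [this]
            _ = e * y⁻¹ := by group) _ hk
        have e1 : y⁻¹ * (y * k * y⁻¹) * y⁻¹⁻¹ = k := by group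
        rwa [e1] at h2
    · intro y hy hyC
      have h2 := h.c.mem_E he he1 (hc y hy) hyC (Two.of_sq (hAB.A_sq y (mem_inf.mp hy).1))
      exact hEL y h2 (hTL (hAB.A_le (mem_inf.mp hy).1))
  have k3 := h.card_P hP
  have k4 : Nat.card ↥(P ⊓ A) ≤ 2 ^ n :=
    h.card_le' (fun y hy => hAB.A_sq y (mem_inf.mp hy).2) (inf_le_left.trans hP.le)
  have k5 := card_T hAB.toIsAB
  rw [← hcard] at k5
  have k6 := Cfsg.Agent.OddHalf.D4.RkEnd.Tools.card_inf_ge hPT hAB.A_le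
  have hq : 4 ≤ 2 ^ n := by
    calc 4 = 2 ^ 2 := by norm_num
      _ ≤ 2 ^ n := Nat.pow_le_pow_right (by norm_num) h.hn
  exact swap_arith hq Nat.card_pos Nat.card_pos hQ hA k1 k2 k3 k4 k5 k6

end Cfsg.Agent.H298.UThree
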