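import Cfsg.Agent.H298.UThree.FourB
import Cfsg.Prelude.Def_Transfer
import Cfsg.Prelude.Def_TwoFusion

/-!
# S3151: the case `|E| = 2`
-/

set_option autoImplicit false
set_option linter.unusedSectionVars false

namespace Cfsg.Agent.H298.UThree

open Subgroup Cfsg.Agent.OddHalf.D4.Basic Cfsg.Agent.OddHalf.D4.U3.ParDefs
open Cfsg.Agent.OddHalf.D4.CommConj (cj mem_cj cj_mul card_cj cj_eq_of_mem_normalizer mem_normalizer_of_cj_eq
  mem_cj_mul)
open Cfsg.Agent.SignalizersComponents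

universe u v

section General

variable {G : Type u} [Group G]

/-- a non-trivial elementary abelian strongly closed 2-subgroup -/
def C1 (G : Type u) [Group G] : Prop :=
  ∃ (P : Sylow 2 G) (Q : Subgroup G), Q ≠ ⊥ ∧ Cfsg.IsElementaryAbelian 2 Q ∧
    Cfsg.IsStronglyClosed Q (P : Subgroup G)

/-- a complement of `⟨t⟩` -/
def C2 (t : G) : Prop := ∃ H : Subgroup G, t ∉ H ∧ ∀ g, g ∈ H ∨ t * g ∈ H

/-- involutions of 2-subgroups of `L` are central in them -/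
def InvCent (L : Subgroup G) : Prop :=
  ∀ T : Subgroup G, T ≤ L → IsPGroup 2 ↥T → ∀ z ∈ T, z * z = 1 → ∀ s ∈ T, z * s = s * z

theorem InvCent.of_equiv {L M : Subgroup G} (e : ↥L ≃* ↥M) (hM : InvCent M) : InvCent L := by
  intro T hTL hT z hz hz2 s hs
  have h1 := hM (((T.subgroupOf L).map e.toMonoidHom).map M.subtype) (by
    rintro _ ⟨x, -, rfl⟩
    exact x.2) (by
    have h2 : IsPGroup 2 ↥(T.subgroupOf L) := hT.comap_subtype
    exact (h2.map _).map _) (e ⟨z, hTL hz⟩) ⟨_, ⟨⟨z, hTL hz⟩, mem_subgroupOf.mpr hz, rfl⟩, rfl⟩ (by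
    have h3 : (⟨z, hTL hz⟩ : ↥L) * ⟨z, hTL hz⟩ = 1 := Subtype.ext hz2
    have h4 : e ⟨z, hTL hz⟩ * e ⟨z, hTL hz⟩ = 1 := by rw [← map_mul, h3, map_one]
    exact congrArg Subtype.val h4) (e ⟨s, hTL hs⟩) ⟨_, ⟨⟨s, hTL hs⟩, mem_subgroupOf.mpr hs, rfl⟩, rfl⟩
  have h2 : e (⟨z, hTL hz⟩ * ⟨s, hTL hs⟩) = e (⟨s, hTL hs⟩ * ⟨z, hTL hz⟩) := by
    rw [map_mul, map_mul]
    exact Subtype.ext h1
  exact congrArg Subtype.val (e.injective h2)

theorem mem_sup_of_comm {X Y : Subgroup G} (hc : ∀ a ∈ X, ∀ b ∈ Y, a * b = b * a) {z : G} (hz : z ∈ X ⊔ Y) :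
    ∃ x ∈ X, ∃ y ∈ Y, z = x * y := by
  have h1 : X ≤ normalizer (Y : Set G) := by
    intro x hx
    apply mem_normalizer_of
    · intro y hy
      rw [hc x hx y hy, mul_inv_cancel_right]; exact hy
    · intro y hy
      have : x⁻¹ * y * x = y := by rw [mul_assoc, ← hc x hx y hy]; group
      rw [this]; exact hy
  have h2 : z ∈ ((X ⊔ Y : Subgroup G) : Set G) := hz
  rw [coe_mul_of_left_le_normalizer_right X Y h1] at h2
  obtain ⟨x, hx, y, hy, rfl⟩ := h2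
  exact ⟨x, hx, y, hy, rfl⟩

/-- the projection of a 2-subgroup of `XY` -/
theorem proj_comm {X Y : Subgroup G} (hc : ∀ a ∈ X, ∀ b ∈ Y, a * b = b * a) (hi : X ⊓ Y = ⊥) (hX : InvCent X)
    {T : Subgroup G} (hT : IsPGroup 2 ↥T) {x y x' y' : G} (hx : x ∈ X) (hy : y ∈ Y) (hx' : x' ∈ X) (hy' : y' ∈ Y)
    (h1 : x * y ∈ T) (h2 : x' * y' ∈ T) (h3 : (x * y) * (x * y) = 1) : x * x' = x' * x := by
  have hone : ∀ a ∈ X, ∀ b ∈ Y, a * b = 1 → a = 1 := by
    intro a ha b hb hab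
    have h4 : a = b⁻¹ := eq_inv_of_mul_eq_one_left hab
    have h5 : a ∈ X ⊓ Y := mem_inf.mpr ⟨ha, by rw [h4]; exact inv_mem hb⟩
    rwa [hi, mem_bot] at h5
  let TX : Subgroup G :=
    { carrier := {a | a ∈ X ∧ ∃ b ∈ Y, a * b ∈ T}
      one_mem' := ⟨one_mem _, 1, one_mem _, by rw [mul_one]; exact one_mem _⟩
      mul_mem' := by
        rintro a a' ⟨ha, b, hb, hab⟩ ⟨ha', b', hb', hab'⟩
        refine ⟨mul_mem ha ha', b * b', mul_mem hb hb', ?_⟩
        have : a * a' * (b * b') = a * b * (a' * b') := by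
          calc a * a' * (b * b') = a * (a' * b) * b' := by group
            _ = a * b * (a' * b') := by rw [hc a' ha' b hb]; group
        rw [this]; exact mul_mem hab hab'
      inv_mem' := by
        rintro a ⟨ha, b, hb, hab⟩
        refine ⟨inv_mem ha, b⁻¹, inv_mem hb, ?_⟩
        have : a⁻¹ * b⁻¹ = (a * b)⁻¹ := by
          rw [mul_inv_rev]
          exact hc _ (inv_mem ha) _ (inv_mem hb)
        rw [this]; exact inv_mem hab }
  have hTX : IsPGroup 2 ↥TX := by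
    rintro ⟨a, ha, b, hb, hab⟩
    obtain ⟨k, hk⟩ := Two.of_mem hT hab
    refine ⟨k, Subtype.ext ?_⟩
    have h4 : Commute a b := hc a ha b hb
    rw [h4.mul_pow] at hk
    exact hone _ (pow_mem ha _) _ (pow_mem hb _) hk
  refine hX TX (fun a ha => ha.1) hTX x ⟨hx, y, hy, h1⟩ ?_ x' ⟨hx', y', hy', h2⟩
  apply hone _ (mul_mem hx hx) _ (mul_mem hy hy)
  calc x * x * (y * y) = x * (x * y) * y := by group
    _ = x * (y * x) * y := by rw [hc x hx y hy]
    _ = x * y * (x * y) := by group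
    _ = 1 := h3

theorem InvCent.sup {X Y : Subgroup G} (hc : ∀ a ∈ X, ∀ b ∈ Y, a * b = b * a) (hi : X ⊓ Y = ⊥) (hX : InvCent X)
    (hY : InvCent Y) : InvCent (X ⊔ Y) := by
  intro T hTL hT z hz hz2 s hs
  obtain ⟨x, hx, y, hy, rfl⟩ := mem_sup_of_comm hc (hTL hz)
  obtain ⟨x', hx', y', hy', rfl⟩ := mem_sup_of_comm hc (hTL hs)
  have h1 := proj_comm hc hi hX hT hx hy hx' hy' hz hs hz2
  have h2 := proj_comm (fun a ha b hb => (hc b hb a ha).symm) (by rw [inf_comm]; exact hi) hY hT hy hx hy' hx'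
    (by rw [← hc x hx y hy]; exact hz) (by rw [← hc x' hx' y' hy']; exact hs)
    (by rw [← hc x hx y hy]; exact hz2)
  calc x * y * (x' * y') = x * (y * x') * y' := by group
    _ = (x * x') * (y * y') := by rw [← hc x' hx' y hy]; group
    _ = x' * (x * y') * y := by rw [h1, h2]; group
    _ = x' * y' * (x * y) := by rw [hc x hx y' hy']; group

variable [Finite G]

theorem invCent_of_par {F : Type v} [Field F] [Fintype F] [CharP F 2] {σ : F →+* F}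
    [hσ : Fact (∀ x, σ (σ x) = x)] {n : ℕ} {L : Subgroup G} (p : Par L σ n) : InvCent L := by
  intro T hTL hT z hz hz2 s hs
  obtain ⟨k, hk, hle⟩ := p.exists_cj_le hT hTL
  have h1 : k * z * k⁻¹ ∈ p.S := hle (mem_cj_mul hz)
  have h2 : k * s * k⁻¹ ∈ p.S := hle (mem_cj_mul hs)
  have h3 : k * z * k⁻¹ ∈ p.Z := p.mem_Z_of_sq h1 (by
    calc k * z * k⁻¹ * (k * z * k⁻¹) = k * (z * z) * k⁻¹ := by group
      _ = 1 := by rw [hz2]; group)
  have h4 := p.Z_comm h3 h2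
  calc z * s = k⁻¹ * (k * z * k⁻¹ * (k * s * k⁻¹)) * k := by group
    _ = k⁻¹ * (k * s * k⁻¹ * (k * z * k⁻¹)) * k := by rw [h4]
    _ = s * z := by group

/-- **strongly closed `Ω₁(S ∩ L)`** -/
theorem c1_of_invCent {L : Subgroup G} (hLn : L.Normal) (hL : InvCent L) (hev : ∃ x ∈ L, orderOf x = 2) :
    C1 G := by
  have : Fact (Nat.Prime 2) := ⟨Nat.prime_two⟩
  obtain ⟨u, hu, hu2⟩ := hev
  have h1 : IsPGroup 2 ↥(zpowers u) := by
    apply IsPGroup.of_card (n := 1)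
    rw [Nat.card_zpowers, hu2, pow_one]
  obtain ⟨S, hS⟩ := h1.exists_le_sylow
  have huS : u ∈ (S : Subgroup G) := hS (mem_zpowers u)
  have hT2 : IsPGroup 2 ↥((S : Subgroup G) ⊓ L : Subgroup G) := S.isPGroup'.to_le inf_le_left
  have hTL : (S : Subgroup G) ⊓ L ≤ L := inf_le_right
  let Q : Subgroup G :=
    { carrier := {x | x ∈ (S : Subgroup G) ⊓ L ∧ x * x = 1}
      one_mem' := ⟨one_mem _, one_mul 1⟩
      mul_mem' := by
        rintro x y ⟨hx, hx2⟩ ⟨hy, hy2⟩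
        refine ⟨mul_mem hx hy, ?_⟩
        have h2 := hL _ hTL hT2 x hx hx2 y hy
        calc x * y * (x * y) = x * (y * x) * y := by group
          _ = (x * x) * (y * y) := by rw [← h2]; group
          _ = 1 := by rw [hx2, hy2, one_mul]
      inv_mem' := by
        rintro x ⟨hx, hx2⟩
        refine ⟨inv_mem hx, ?_⟩
        rw [← mul_inv_rev, hx2, inv_one] }
  have memQ : ∀ x, x ∈ Q ↔ (x ∈ (S : Subgroup G) ⊓ L ∧ x * x = 1) := fun x => Iff.rfl
  refine ⟨S, Q, ?_, ⟨⟨⟨fun x y => ?_⟩⟩, ?_⟩, ?_, ?_⟩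
  · intro h2
    have h3 : u ∈ Q := (memQ u).mpr ⟨mem_inf.mpr ⟨huS, hu⟩, by rw [← pow_two, ← hu2, pow_orderOf_eq_one]⟩
    rw [h2, mem_bot] at h3
    rw [h3, orderOf_one] at hu2
    omega
  · exact Subtype.ext (hL _ hTL hT2 x ((memQ x).mp x.2).1 ((memQ x).mp x.2).2 y ((memQ y).mp y.2).1)
  · intro x hx
    rw [pow_two]
    exact ((memQ x).mp hx).2
  · intro x hx
    exact (mem_inf.mp ((memQ x).mp hx).1).1
  · intro x hx g hg
    obtain ⟨h2, h3⟩ := (memQ x).mp hx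
    refine (memQ _).mpr ⟨mem_inf.mpr ⟨hg, hLn.conj_mem x (mem_inf.mp h2).2 g⟩, ?_⟩
    calc g * x * g⁻¹ * (g * x * g⁻¹) = g * (x * x) * g⁻¹ := by group
      _ = 1 := by rw [h3]; group

/-- `C1` lifts from the quotient by a normal subgroup of odd order -/
theorem c1_of_quot {N : Subgroup G} [hN : N.Normal] (hodd : Odd (Nat.card ↥N)) (h : C1 (G ⧸ N)) : C1 G := by
  have : Fact (Nat.Prime 2) := ⟨Nat.prime_two⟩
  obtain ⟨P, Q, hQ, ⟨hQc, hQ2⟩, hQP, hcl⟩ := h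
  have S₀ : Sylow 2 G := default
  obtain ⟨g, hg⟩ := MulAction.exists_smul_eq (G ⧸ N) (S₀.mapSurjective (QuotientGroup.mk'_surjective N)) P
  obtain ⟨g, rfl⟩ := QuotientGroup.mk'_surjective N g
  have hSP : ((g • S₀ : Sylow 2 G) : Subgroup G).map (QuotientGroup.mk' N) = (P : Subgroup (G ⧸ N)) := by
    rw [← hg, Sylow.coe_subgroup_smul, Sylow.coe_subgroup_smul, Sylow.coe_mapSurjective]
    ext x
    constructor
    · rintro ⟨_, ⟨s, hs, rfl⟩, rfl⟩
      exact ⟨_, ⟨s, hs, rfl⟩, rfl⟩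
    · rintro ⟨_, ⟨s, hs, rfl⟩, rfl⟩
      exact ⟨_, ⟨s, hs, rfl⟩, rfl⟩
  set S := g • S₀ with hS
  have hone : ∀ x ∈ (S : Subgroup G), QuotientGroup.mk' N x = 1 → x = 1 := by
    intro x hx h1
    rw [← MonoidHom.mem_ker, QuotientGroup.ker_mk'] at h1
    have h3 : x ^ Nat.card ↥N = 1 := by
      have : (⟨x, h1⟩ : ↥N) ^ Nat.card ↥N = 1 := pow_card_eq_one'
      exact congrArg Subtype.val this
    exact (Two.of_mem S.isPGroup' hx).eq_one_of_odd hodd h3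
  refine ⟨S, (S : Subgroup G) ⊓ Q.comap (QuotientGroup.mk' N), ?_, ⟨⟨⟨fun x y => ?_⟩⟩, ?_⟩, inf_le_left, ?_⟩
  · intro h1
    apply hQ
    rw [eq_bot_iff]
    intro q hq
    have h2 : q ∈ (P : Subgroup (G ⧸ N)) := hQP hq
    rw [← hSP] at h2
    obtain ⟨s, hs, rfl⟩ := h2
    have h3 : s ∈ (S : Subgroup G) ⊓ Q.comap (QuotientGroup.mk' N) := mem_inf.mpr ⟨hs, hq⟩
    rw [h1, mem_bot] at h3
    rw [h3, map_one]
    exact one_mem _
  · obtain ⟨hx1, hx2⟩ := mem_inf.mp x.2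
    obtain ⟨hy1, hy2⟩ := mem_inf.mp y.2
    have h1 := hQc.is_comm.comm (⟨_, hx2⟩ : ↥Q) ⟨_, hy2⟩
    have h2 : QuotientGroup.mk' N (x : G) * QuotientGroup.mk' N (y : G) =
        QuotientGroup.mk' N (y : G) * QuotientGroup.mk' N (x : G) := congrArg Subtype.val h1
    have h3 := hone ((x : G) * y * (x : G)⁻¹ * (y : G)⁻¹)
      (mul_mem (mul_mem (mul_mem hx1 hy1) (inv_mem hx1)) (inv_mem hy1)) (by
        rw [map_mul, map_mul, map_mul, map_inv, map_inv, h2]; group)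
    rw [mul_inv_eq_one, mul_inv_eq_iff_eq_mul] at h3
    exact Subtype.ext h3
  · intro x hx
    obtain ⟨hx1, hx2⟩ := mem_inf.mp hx
    apply hone _ (pow_mem hx1 2)
    rw [map_pow]
    exact hQ2 _ hx2
  · intro x hx g hg
    obtain ⟨hx1, hx2⟩ := mem_inf.mp hx
    refine mem_inf.mpr ⟨hg, ?_⟩
    rw [mem_comap, map_mul, map_mul, map_inv]
    apply hcl _ hx2
    rw [← map_inv, ← map_mul, ← map_mul, ← hSP]
    exact ⟨_, hg, rfl⟩

theorem c2_of_quot {N : Subgroup G} [hN : N.Normal] {t : G} (h : C2 (QuotientGroup.mk' N t)) : C2 t := by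
  obtain ⟨H, h1, h2⟩ := h
  refine ⟨H.comap (QuotientGroup.mk' N), h1, fun g => ?_⟩
  rcases h2 (QuotientGroup.mk' N g) with h3 | h3
  · exact Or.inl h3
  · right
    rw [mem_comap, map_mul]
    exact h3

end General

end Cfsg.Agent.H298.UThree
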