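import Cfsg.Agent.H298.UThree.Two

/-!
# S3151: the case `|E| = 2`, conclusion
-/

set_option autoImplicit false
set_option linter.unusedSectionVars false

namespace Cfsg.Agent.H298.UThree

open Subgroup Cfsg.Agent.OddHalf.D4.Basic Cfsg.Agent.OddHalf.D4.U3.ParDefs
open Cfsg.Agent.OddHalf.D4.CommConj (cj mem_cj cj_mul card_cj cj_eq_of_mem_normalizer mem_normalizer_of_cj_eq
  mem_cj_mul)
open Cfsg.Agent.OddHalf.D4.RkEnd.Tools (cj_one)
open Cfsg.Agent.SignalizersComponents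

universe u v

variable {G : Type u} [Group G] [Finite G]

theorem cj_inj {g : G} {X Y : Subgroup G} (h : cj g X = cj g Y) : X = Y := by
  have h1 := congrArg (cj g⁻¹) h
  rwa [← cj_mul, ← cj_mul, inv_mul_cancel, cj_one, cj_one] at h1

/-- 2-elements of `L` normalising a Sylow 2-subgroup `T` of `L` are in `T` -/
theorem mem_of_two {T L : Subgroup G} (hT : IsSyl T L) {y : G} (hy : y ∈ L) (h2 : Two y)
    (hyT : y ∈ normalizer (T : Set G)) : y ∈ T := by
  have h1 : IsSyl T (normalizer (T : Set G) ⊓ L) := hT.mono (le_inf le_normalizer hT.le) inf_le_right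
  obtain ⟨m, hm, h3⟩ := h1.conj_into (zpowers_two h2) (by rw [zpowers_le]; exact mem_inf.mpr ⟨hyT, hy⟩)
  have h4 := h3 y (mem_zpowers y)
  exact (mem_normalizer_iff.mp (mem_inf.mp hm).1 y).mpr h4

/-- elements of `N(T)` permute `A`, `B` -/
theorem AB.perm {T A B : Subgroup G} (h : AB T A B) {g : G} (hg : g ∈ normalizer (T : Set G)) :
    cj g A = A ∨ cj g A = B := by
  obtain ⟨Q, hA, hB, hQ⟩ := h.num
  have hcard : Nat.card ↥A = Nat.card ↥B := by rw [hA, hB]
  have hsub : cj g A ≤ T := by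
    rw [← cj_eq_of_mem_normalizer hg]
    rintro _ ⟨a, ha, rfl⟩
    exact mem_cj_mul (h.A_le ha)
  have hsq : ∀ x ∈ cj g A, x * x = 1 := by
    rintro _ ⟨a, ha, rfl⟩
    show g * a * g⁻¹ * (g * a * g⁻¹) = 1
    calc g * a * g⁻¹ * (g * a * g⁻¹) = g * (a * a) * g⁻¹ := by group
      _ = 1 := by rw [h.A_sq a ha]; group
  rcases h.le_or_le hsub hsq with h1 | h1
  · exact Or.inl (eq_of_le_of_card_ge h1 (by rw [card_cj]))
  · exact Or.inr (eq_of_le_of_card_ge h1 (by rw [card_cj, hcard]))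

theorem AB.ne {T A B : Subgroup G} (h : AB T A B) : A ≠ B := by
  rintro rfl
  obtain ⟨a, ha, ha'⟩ := h.neA
  exact ha' ha

/-- `N_L(T)` normalises `A` -/
theorem AB.inner {T A B L : Subgroup G} (h : AB T A B) (hT : IsSyl T L) {l : G} (hl : l ∈ L)
    (hlT : l ∈ normalizer (T : Set G)) : cj l A = A := by
  by_contra hcon
  have h1 : cj l A = B := (h.perm hlT).resolve_left hcon
  have h2 : cj (l * l) A = A := by
    rcases h.perm (mul_mem hlT hlT) with h3 | h3
    · exact h3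
    · exfalso
      rw [cj_mul, ← h1] at h3
      exact hcon (cj_inj h3)
  obtain ⟨k, m, ⟨s, hs⟩, hkm⟩ := Nat.exists_eq_two_pow_mul_odd (orderOf_pos l).ne'
  have h3 : Two (l ^ m) := ⟨k, by rw [← pow_mul, mul_comm, ← hkm, pow_orderOf_eq_one]⟩
  have h4 : l ^ m ∈ T := mem_of_two hT (pow_mem hl m) h3 (pow_mem hlT m)
  have h5 : cj (l ^ m) A = A := cj_eq_of_mem_normalizer (h.S_le_normalizer_A h4)
  have h6 : l ^ m = l * (l * l) ^ s := by
    rw [hs, pow_succ', pow_mul, pow_two]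
  have h7 : cj ((l * l) ^ s) A = A :=
    cj_eq_of_mem_normalizer (pow_mem (mem_normalizer_of_cj_eq h2) s)
  rw [h6, cj_mul, h7] at h5
  exact hcon h5

variable {E K : Subgroup G} {F : Type v} [Field F] [Fintype F] {n : ℕ}

/-- **the complement** -/
theorem Hyp.c2 (h : Hyp E K F n) {L : Subgroup G} (hLn : L.Normal) (hKL : K ≤ L) (hk : KindAB ↥L)
    {t : G} (ht : t ∈ E) (ht1 : t ≠ 1) (hEL : ∀ f ∈ E, f ∈ L → f = 1) : C2 t := by
  obtain ⟨P, S, hP, hS, hES, hPS, hT⟩ := h.exists_T hLn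
  obtain ⟨A, B, hAB⟩ := exists_ab hk hT
  have htT : cj t (S ⊓ L) = S ⊓ L := cj_inf_of_mem hLn (hES ht)
  have hsw : cj t A = B := h.swap hEL hP inf_le_right (le_inf hPS (hP.le.trans hKL)) hAB ht ht1 htT
  have hsw' : cj t B = A := by
    rw [← hsw, ← cj_mul, h.c.sq t ht, cj_one]
  have htN : t ∈ normalizer ((S ⊓ L : Subgroup G) : Set G) := mem_normalizer_of_cj_eq htT
  refine ⟨L ⊔ (normalizer ((S ⊓ L : Subgroup G) : Set G) ⊓ normalizer (A : Set G)), ?_, ?_⟩
  · intro h1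
    obtain ⟨l, hl, x, hx, hlx⟩ := Subgroup.mem_sup_of_normal_left.mp h1
    obtain ⟨hx1, hx2⟩ := mem_inf.mp hx
    have h2 : l ∈ normalizer ((S ⊓ L : Subgroup G) : Set G) := by
      have : l = t * x⁻¹ := by rw [← hlx]; group
      rw [this]; exact mul_mem htN (inv_mem hx1)
    have h3 := hAB.inner hT hl h2
    apply hAB.ne
    rw [← hsw, ← hlx, cj_mul, cj_eq_of_mem_normalizer hx2, h3]
  · intro g
    have h1 : cj g (S ⊓ L) ≤ L := by
      rintro _ ⟨x, hx, rfl⟩
      exact hLn.conj_mem x (mem_inf.mp hx).2 g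
    have h2 : IsPGroup 2 ↥(cj g (S ⊓ L)) := Cfsg.Agent.OddHalf.D4.RkEnd.Tools.isPGroup_cj hT.two
    obtain ⟨m, hm, hmT⟩ := hT.conj_into h2 h1
    have h3 : cj (m * g) (S ⊓ L) = S ⊓ L := by
      apply eq_of_le_of_card_ge
      · rw [cj_mul]
        rintro _ ⟨x, hx, rfl⟩
        exact hmT x hx
      · rw [card_cj]
    have h4 := mem_normalizer_of_cj_eq h3
    rcases hAB.perm h4 with h5 | h5
    · left
      have : g = m⁻¹ * (m * g) := by group
      rw [this]
      exact mul_mem (mem_sup_left (inv_mem hm)) (mem_sup_right (mem_inf.mpr ⟨h4, mem_normalizer_of_cj_eq h5⟩))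
    · right
      have : t * g = (t * m⁻¹ * t⁻¹) * (t * (m * g)) := by group
      rw [this]
      refine mul_mem (mem_sup_left (hLn.conj_mem _ (inv_mem hm) t)) (mem_sup_right (mem_inf.mpr
        ⟨mul_mem htN h4, mem_normalizer_of_cj_eq ?_⟩))
      rw [cj_mul, h5, hsw']

theorem Hyp.invCent (h : Hyp E K F n) : InvCent K := by
  intro T hTK hT z hz hz2 s hs
  obtain ⟨P, hP, hTP⟩ := exists_isSyl hT hTK
  exact h.comm_P hP (hTP hz) hz2 (hTP hs)

/-- **the case `|E| = 2`, `O(G) = 1`** -/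
theorem Hyp.two (h : Hyp E K F n) (hO : Cfsg.oddCore G = ⊥) {t : G} (ht : t ∈ E) (ht1 : t ≠ 1)
    (hE : ∀ e ∈ E, e ≠ 1 → e = t) : C1 G ∨ C2 t := by
  have hf2 : Fact (Nat.Prime 2) := ⟨Nat.prime_two⟩
  have hord : orderOf t = 2 := orderOf_eq_prime (by rw [pow_two]; exact h.c.sq t ht) ht1
  have htC := h.c.E_le ht
  by_cases hKn : K.Normal
  · left
    obtain ⟨S, hES⟩ := h.c.E_two.exists_le_sylow
    refine ⟨S, E, ?_, ⟨⟨⟨fun x y => Subtype.ext (h.c.E_comm x.2 y.2)⟩⟩, ?_⟩, hES, ?_⟩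
    · rintro rfl
      exact ht1 (mem_bot.mp ht)
    · intro x hx
      rw [pow_two]
      exact h.c.sq x hx
    · intro x hx g hg
      have h1 := h.c.isSyl.max ((S : Subgroup G) ⊓ centralizer (K : Set G)) (S.isPGroup'.to_le inf_le_left)
        (le_inf hES h.c.E_le) inf_le_right
      apply h1
      refine mem_inf.mpr ⟨hg, ?_⟩
      rw [mem_centralizer_iff]
      intro k hk
      have h2 : g⁻¹ * k * g ∈ K := by
        have := hKn.conj_mem k hk g⁻¹
        rwa [inv_inv] at this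
      have h3 := h.c.Kc x hx _ h2
      calc k * (g * x * g⁻¹) = g * (g⁻¹ * k * g * x) * g⁻¹ := by group
        _ = g * (x * (g⁻¹ * k * g)) * g⁻¹ := by rw [h3]
        _ = g * x * g⁻¹ * k := by group
  have h2 : Cfsg.pCore 2 G = ⊥ := by
    by_contra h0
    exact hKn (StandardTrichotomy.normal_of_pCore_ne_bot h.isStandard hord htC h0)
  have hC := StandardTrichotomy.centralizer_layer_eq_bot hO h2
  have hLn : (Cfsg.layer G).Normal := Components.layer_normal G
  rcases Cfsg.Agent.S1347.result K h.isStandard hO t hord htC with h1 | h1 | h1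
  · exact absurd h1 hKn
  · left
    obtain ⟨X, -, -, ⟨e⟩, hcomm, hinf, hsup, -⟩ := h1
    have hX : InvCent X := h.invCent.of_equiv e
    have g : ↥X ≃* ↥(X.map (MulAut.conj t).toMonoidHom) :=
      X.equivMapOfInjective _ (MulAut.conj t).injective
    have hY : InvCent (X.map (MulAut.conj t).toMonoidHom) := hX.of_equiv g.symm
    have hL := InvCent.sup hcomm hinf hX hY
    rw [hsup] at hL
    apply c1_of_invCent hLn hL
    obtain ⟨x, hx, hx2⟩ := h.K_even
    refine ⟨(e.symm ⟨x, hx⟩ : G), ?_, ?_⟩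
    · rw [← hsup]
      exact mem_sup_left (e.symm ⟨x, hx⟩).2
    · rw [Subgroup.orderOf_coe, MulEquiv.orderOf_eq, Subgroup.orderOf_mk]
      exact hx2
  · obtain ⟨hKL, hLs, hna⟩ := h1
    have hev : ∃ x ∈ Cfsg.layer G, orderOf x = 2 := by
      obtain ⟨x, hx, hx2⟩ := h.K_even
      exact ⟨x, hKL hx, hx2⟩
    obtain ⟨htL, hk⟩ := h.local_analysis hLn hLs hna hC hKL ht ht1 (by
      intro f hf _
      by_cases hf1 : f = 1
      · exact Or.inl hf1
      · exact Or.inr (hE f hf hf1))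
    rcases hk with ⟨F', _, _, q, hq, heven, hq4, hpsu⟩ | hk
    · left
      obtain ⟨m, _, σ, _, -, -, ⟨p⟩⟩ := exists_par_of_psu hq heven hq4 hpsu
      exact c1_of_invCent hLn (invCent_of_par p) hev
    · right
      refine h.c2 hLn hKL hk ht ht1 ?_
      intro f hf hfL
      by_contra hf1
      rw [hE f hf hf1] at hfL
      exact htL hfL

/-- **the case `|E| = 2`** -/
theorem Hyp.two' (h : Hyp E K F n) {t : G} (ht : t ∈ E) (ht1 : t ≠ 1)
    (hE : ∀ e ∈ E, e ≠ 1 → e = t) : C1 G ∨ C2 t := by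
  have hn : (Cfsg.oddCore G).Normal := Cfsg.Agent.Lib.Cores.pPrimeCore_normal 2
  have hodd : Odd (Nat.card ↥(Cfsg.oddCore G)) := by
    have := Cfsg.Agent.Lib.Cores.pPrimeCore_coprime (G := G) 2
    rwa [Nat.coprime_two_right] at this
  have h' := h.quot hodd
  have ht' : QuotientGroup.mk' (Cfsg.oddCore G) t ≠ 1 := by
    intro h1
    rw [← MonoidHom.mem_ker, QuotientGroup.ker_mk'] at h1
    have h3 : t ^ Nat.card ↥(Cfsg.oddCore G) = 1 := by
      have : (⟨t, h1⟩ : ↥(Cfsg.oddCore G)) ^ Nat.card ↥(Cfsg.oddCore G) = 1 := pow_card_eq_one'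
      exact congrArg Subtype.val this
    exact ht1 ((Two.of_mem h.c.E_two ht).eq_one_of_odd hodd h3)
  rcases h'.two (Cfsg.Agent.Lib.Cores.pPrimeCore_quotient_pPrimeCore 2) ⟨t, ht, rfl⟩ ht' (by
    rintro _ ⟨e, he, rfl⟩ he1
    rw [hE e he (by rintro rfl; exact he1 (map_one _))]) with h1 | h1
  · exact Or.inl (c1_of_quot hodd h1)
  · exact Or.inr (c2_of_quot h1)

end Cfsg.Agent.H298.UThree
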